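import Mathlib.GroupTheory.Sylow
import Mathlib.GroupTheory.SpecificGroups.Cyclic
import Mathlib.GroupTheory.PGroup
import Mathlib.GroupTheory.Index
import Mathlib.GroupTheory.QuotientGroup.Basic
import Mathlib.GroupTheory.Subgroup.Centralizer
import Mathlib.Algebra.BigOperators.Group.Finset.Basic
import Mathlib.Data.ZMod.Basic
import Mathlib.Tactic.Group
import Mathlib.Tactic.IntervalCases
import Mathlib.Tactic.Linarith
import Mathlib.Tactic.NormNum.Prime

/-!
# Groups all of whose element orders are at most five: first consequences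
-/

set_option autoImplicit false
set_option linter.unusedSectionVars false

namespace Cfsg.Agent.SpecFive

open Subgroup

/-- All element orders are at most five. -/
def Bound (G : Type*) [Group G] : Prop := ∀ g : G, orderOf g ≤ 5

variable {G : Type*} [Group G]

theorem Bound.subgroup (h : Bound G) (H : Subgroup G) : Bound H := fun x => by
  rw [← Subgroup.orderOf_coe]; exact h _

theorem Bound.quotient [Finite G] (h : Bound G) (N : Subgroup G) [N.Normal] : Bound (G ⧸ N) :=
  fun x => by
    obtain ⟨g, rfl⟩ := QuotientGroup.mk'_surjective N x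
    exact (Nat.le_of_dvd (orderOf_pos g) (orderOf_map_dvd _ g)).trans (h g)

variable [Finite G]

theorem Bound.order_cases (h : Bound G) (g : G) : orderOf g = 1 ∨ orderOf g = 2 ∨ orderOf g = 3 ∨
    orderOf g = 4 ∨ orderOf g = 5 := by
  have := orderOf_pos g
  have := h g
  omega

theorem Bound.prime_dvd (h : Bound G) {r : ℕ} (hr : r.Prime) (hd : r ∣ Nat.card G) :
    r = 2 ∨ r = 3 ∨ r = 5 := by
  haveI : Fact r.Prime := ⟨hr⟩
  obtain ⟨g, hg⟩ := exists_prime_orderOf_dvd_card' r hd
  have hle := hg ▸ h g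
  have := hr.two_le
  interval_cases r
  · tauto
  · tauto
  · exact absurd hr (by norm_num)
  · tauto

/-- Centralisers of elements of order three or five have that exponent. -/
theorem Bound.pow_eq_one_of_commute (h : Bound G) {p : ℕ} (hp : p = 3 ∨ p = 5) {x y : G}
    (hx : x ≠ 1) (hxp : x ^ p = 1) (hc : Commute x y) : y ^ p = 1 := by
  haveI : Fact p.Prime := ⟨by rcases hp with rfl | rfl <;> norm_num⟩
  have hxo : orderOf x = p := orderOf_eq_prime hxp hx
  refine orderOf_dvd_iff_pow_eq_one.mp ?_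
  by_cases hco : p.Coprime (orderOf y)
  · have h1 := hc.orderOf_mul_eq_mul_orderOf_of_coprime (by rw [hxo]; exact hco)
    have h2 := h (x * y)
    rw [h1, hxo] at h2
    have := orderOf_pos y
    have hy1 : orderOf y = 1 := by rcases hp with rfl | rfl <;> omega
    rw [hy1]; exact one_dvd p
  · have hdvd : p ∣ orderOf y := by
      by_contra hn
      exact hco ((Fact.out : p.Prime).coprime_iff_not_dvd.mpr hn)
    obtain ⟨c, hc⟩ := hdvd
    have h2 := h y
    have := orderOf_pos y
    have hc1 : c = 1 := by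
      rcases hp with rfl | rfl <;> omega
    rw [hc, hc1, mul_one]

theorem Bound.not_commute_primes (h : Bound G) {x y : G} {p r : ℕ} (hx : orderOf x = p)
    (hy : orderOf y = r) (hp : p.Prime) (hr : r.Prime) (hne : p ≠ r) : ¬ Commute x y := by
  intro hc
  have h1 := hc.orderOf_mul_eq_mul_orderOf_of_coprime
    (by rw [hx, hy]; exact (Nat.coprime_primes hp hr).mpr hne)
  have h2 := h (x * y)
  rw [h1, hx, hy] at h2
  have := hp.two_le
  have := hr.two_le
  rcases Nat.lt_or_gt_of_ne hne with hlt | hlt <;> nlinarith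

/-- Centralisers of involutions have exponent four. -/
theorem Bound.pow_four_of_commute (h : Bound G) {t y : G} (ht : orderOf t = 2) (hc : Commute t y) :
    y ^ 4 = 1 := by
  refine orderOf_dvd_iff_pow_eq_one.mp ?_
  rcases h.order_cases y with e | e | e | e | e
  · rw [e]; norm_num
  · rw [e]; norm_num
  · exact absurd hc (h.not_commute_primes ht e Nat.prime_two (by norm_num) (by norm_num))
  · rw [e]
  · exact absurd hc (h.not_commute_primes ht e Nat.prime_two (by norm_num) (by norm_num))

theorem Bound.pow_eq_one_of_pgroup (h : Bound G) {p : ℕ} (hp : p = 3 ∨ p = 5) {P : Subgroup G}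
    (hP : IsPGroup p P) {y : G} (hy : y ∈ P) : y ^ p = 1 := by
  have hpp : p.Prime := by rcases hp with rfl | rfl <;> norm_num
  obtain ⟨i, hi⟩ := hP ⟨y, hy⟩
  have hi' : y ^ p ^ i = 1 := congrArg Subtype.val hi
  obtain ⟨j, -, hj⟩ := (Nat.dvd_prime_pow hpp).mp (orderOf_dvd_of_pow_eq_one hi')
  refine orderOf_dvd_iff_pow_eq_one.mp ?_
  have h2 := h y
  rw [hj] at h2 ⊢
  have hj1 : j ≤ 1 := by
    by_contra hc
    have h3 := Nat.pow_le_pow_right hpp.pos (show 2 ≤ j by omega)
    rcases hp with rfl | rfl <;> omega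
  have h4 := pow_dvd_pow p hj1
  rwa [pow_one] at h4

theorem Bound.eq_one_of_commute_involution (h : Bound G) {p : ℕ} (hp : p = 3 ∨ p = 5) {u t : G}
    (hu : u ^ p = 1) (ht : orderOf t = 2) (hc : Commute u t) : u = 1 := by
  by_contra hne
  haveI : Fact p.Prime := ⟨by rcases hp with rfl | rfl <;> norm_num⟩
  exact h.not_commute_primes (orderOf_eq_prime hu hne) ht Fact.out Nat.prime_two
    (by rcases hp with rfl | rfl <;> norm_num) hc

/-- An involution acting without fixed points on a finite subgroup inverts it. -/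
theorem inverts_of_fpf {D : Subgroup G} {t : G} (htt : t * t = 1)
    (hconj : ∀ u ∈ D, t * u * t ∈ D) (hfix : ∀ u ∈ D, Commute u t → u = 1) :
    ∀ u ∈ D, t * u * t = u⁻¹ := by
  have hti : t⁻¹ = t := inv_eq_of_mul_eq_one_right htt
  let φ : D → D := fun u => ⟨(u : G)⁻¹ * (t * u * t), mul_mem (inv_mem u.2) (hconj u u.2)⟩
  have hφ : Function.Injective φ := by
    intro u v huv
    have e : (u : G)⁻¹ * (t * u * t) = (v : G)⁻¹ * (t * v * t) := congrArg Subtype.val huv
    have h1 : Commute ((v : G) * (u : G)⁻¹) t := by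
      show _ = _
      calc (v : G) * (u : G)⁻¹ * t
          = (v : G) * ((u : G)⁻¹ * (t * u * t)) * (t⁻¹ * (u : G)⁻¹) := by group
        _ = (v : G) * ((v : G)⁻¹ * (t * v * t)) * (t⁻¹ * (u : G)⁻¹) := by rw [e]
        _ = t * ((v : G) * (u : G)⁻¹) := by group
    exact Subtype.ext (mul_inv_eq_one.mp (hfix _ (mul_mem v.2 (inv_mem u.2)) h1)).symm
  intro u hu
  obtain ⟨w, hw⟩ := (Finite.injective_iff_bijective.mp hφ).2 ⟨u, hu⟩
  have hw' : (w : G)⁻¹ * (t * w * t) = u := congrArg Subtype.val hw
  rw [← hw']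
  calc t * ((w : G)⁻¹ * (t * w * t)) * t
      = t * (w : G)⁻¹ * t * (w : G) * (t * t) := by group
    _ = t * (w : G)⁻¹ * t * (w : G) := by rw [htt, mul_one]
    _ = ((w : G)⁻¹ * (t⁻¹ * (w : G) * t⁻¹))⁻¹ := by group
    _ = ((w : G)⁻¹ * (t * w * t))⁻¹ := by rw [hti]

/-- Two elements inverting the same elements: the product centralises them. -/
theorem commute_mul_of_inverts {t u x : G} (ht : t * x * t = x⁻¹) (hu : u * x⁻¹ * u = x)
    (htt : t * t = 1) (huu : u * u = 1) : Commute (u * t) x := by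
  show u * t * x = x * (u * t)
  calc u * t * x = u * (t * x * t) * (u * u) * t := by rw [huu]; simp [mul_assoc, htt]
    _ = (u * x⁻¹ * u) * (u * t) := by rw [ht]; group
    _ = x * (u * t) := by rw [hu]

/-- An elementary group of order `r ^ 2` cannot act fixed-point-freely on an abelian group. -/
theorem pow_eq_one_of_pair {V A : Type*} [CommGroup V] [Group A]
    [MulDistribMulAction A V] {r : ℕ} (hr : r.Prime) {x y : A} (hxy : Commute x y)
    (hx1 : x ≠ 1) (hx : x ^ r = 1) (hy : y ^ r = 1) (hy' : y ∉ zpowers x)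
    (hfix : ∀ a : A, a ≠ 1 → a ^ r = 1 → ∀ v : V, a • v = v → v = 1) (v : V) : v ^ r = 1 := by
  have hfixed : ∀ a : A, a ≠ 1 → a ^ r = 1 → ∀ w : V, ∏ i ∈ Finset.range r, a ^ i • w = 1 := by
    intro a ha har w
    refine hfix a ha har _ ?_
    rw [Finset.smul_prod']
    have h1 := Finset.prod_range_succ' (fun i => a ^ i • w) r
    have h2 := Finset.prod_range_succ (fun i => a ^ i • w) r
    rw [har, ← pow_zero a, h1] at h2
    refine Eq.trans ?_ (mul_right_cancel h2)
    refine Finset.prod_congr rfl fun i _ => ?_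
    rw [smul_smul, ← pow_succ']
  have h1 : ∏ j ∈ Finset.range r, ∏ i ∈ Finset.range r, (x ^ j * y) ^ i • v = 1 := by
    refine Finset.prod_eq_one fun j _ => hfixed _ (fun e => hy' ?_) ?_ v
    · rw [eq_inv_of_mul_eq_one_right e]
      exact inv_mem (pow_mem (mem_zpowers x) j)
    · rw [(hxy.pow_left j).mul_pow, hy, ← pow_mul, mul_comm, pow_mul, hx, one_pow, mul_one]
  rw [Finset.prod_comm, ← Finset.mul_prod_erase _ _ (Finset.mem_range.2 hr.pos)] at h1
  have h2 : ∏ i ∈ (Finset.range r).erase 0, ∏ j ∈ Finset.range r, (x ^ j * y) ^ i • v = 1 := by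
    refine Finset.prod_eq_one fun i hi => ?_
    obtain ⟨hi0, hir⟩ := Finset.mem_erase.1 hi
    rw [Finset.mem_range] at hir
    refine Eq.trans (Finset.prod_congr rfl fun j _ => ?_) (hfixed (x ^ i) ?_ ?_ (y ^ i • v))
    · rw [smul_smul, (hxy.pow_left j).mul_pow, ← pow_mul, ← pow_mul, mul_comm i j]
    · intro e
      haveI : Fact r.Prime := ⟨hr⟩
      have h3 := orderOf_dvd_of_pow_eq_one e
      rw [orderOf_eq_prime hx hx1] at h3
      exact absurd (Nat.le_of_dvd (Nat.pos_of_ne_zero hi0) h3) (by omega)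
    · rw [← pow_mul, mul_comm, pow_mul, hx, one_pow]
  rw [h2, mul_one] at h1
  simpa [Finset.prod_const] using h1

/-- No subgroup of order `r ^ 2` and exponent `r` normalises a non-trivial abelian group of
exponent prime to `r` without commuting with one of its elements. -/
theorem false_of_pair {V : Subgroup G} (hVc : ∀ a ∈ V, ∀ b ∈ V, Commute a b) (hV : V ≠ ⊥)
    {p r : ℕ} (hp : p.Prime) (hr : r.Prime) (hpr : p ≠ r) (hVp : ∀ v ∈ V, v ^ p = 1)
    {x y : G} (hxN : x ∈ normalizer (V : Set G)) (hyN : y ∈ normalizer (V : Set G))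
    (hxy : Commute x y) (hx1 : x ≠ 1) (hx : x ^ r = 1) (hy : y ^ r = 1) (hy' : y ∉ zpowers x)
    (hfix : ∀ a : G, a ≠ 1 → a ^ r = 1 → ∀ v ∈ V, Commute v a → v = 1) : False := by
  letI : CommGroup V :=
    { (inferInstance : Group V) with mul_comm := fun a b => Subtype.ext (hVc a a.2 b b.2) }
  letI : MulDistribMulAction (normalizer (V : Set G)) V :=
    MulDistribMulAction.compHom V (normalizerMonoidHom V)
  obtain ⟨v, hv, hv1⟩ : ∃ v ∈ V, v ≠ (1 : G) := by
    by_contra hc
    push Not at hc
    exact hV ((Subgroup.eq_bot_iff_forall V).mpr hc)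
  have key := pow_eq_one_of_pair (V := V) hr (x := (⟨x, hxN⟩ : normalizer (V : Set G)))
    (y := ⟨y, hyN⟩) (Subtype.ext hxy) (fun e => hx1 (congrArg Subtype.val e))
    (Subtype.ext (by simpa using hx)) (Subtype.ext (by simpa using hy))
    (fun hm => by
      obtain ⟨i, hi⟩ := mem_zpowers_iff.mp hm
      exact hy' (mem_zpowers_iff.mpr ⟨i, by simpa using congrArg Subtype.val hi⟩))
    (fun a ha har w hw => by
      refine Subtype.ext (hfix (a : G) (fun e => ha (Subtype.ext e))
        (by simpa using congrArg Subtype.val har) w w.2 ?_)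
      have e : (a : G) * w * (a : G)⁻¹ = w := congrArg Subtype.val hw
      exact (mul_inv_eq_iff_eq_mul.mp e).symm) ⟨v, hv⟩
  have h1 : v ^ r = 1 := by simpa using congrArg Subtype.val key
  exact hv1 (orderOf_eq_one_iff.mp (Nat.Coprime.eq_one_of_dvd
    (((Nat.coprime_primes hr hp).mpr hpr.symm).coprime_dvd_left (orderOf_dvd_of_pow_eq_one h1))
    (orderOf_dvd_of_pow_eq_one (hVp v hv))))

end Cfsg.Agent.SpecFive
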