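import Mathlib.Algebra.BigOperators.Ring.Finset
import Mathlib.Algebra.Order.BigOperators.Group.Finset
import Mathlib.Data.Fintype.Card
import Mathlib.Data.Int.Interval
import Mathlib.Algebra.Order.Ring.Abs
import Mathlib.RingTheory.Int.Basic
import Mathlib.Tactic.Linarith
import Mathlib.Tactic.LinearCombination
import Mathlib.Tactic.IntervalCases
import Mathlib.Tactic.NormNum.Prime

/-!
# Integer vectors with the inner products of induced differences
-/

set_option autoImplicit false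
set_option linter.unusedSectionVars false

namespace Cfsg.Agent.SpecFive

open scoped Classical

theorem small_check : ∀ p ∈ ({3, 5} : Finset ℕ), ∀ e ∈ ({2, 4, 8, 8 - p} : Finset ℕ),
    ∀ n ∈ Finset.Icc 2 9, (∃ j < 5, n * e + 1 = p ^ j) →
    ∀ w ∈ Finset.Icc (-2 : ℤ) 2, ∀ ζ ∈ ({1, -1} : Finset ℤ),
    ((n : ℤ) - 1) * (w * w) + (w + ζ) * (w + ζ) ≤ e → ¬ (p : ℤ) ∣ (n : ℤ) * w + ζ := by
  decide +kernel

theorem not_dvd_exceptional {p e n j : ℕ} (hp : p = 3 ∨ p = 5)
    (he : e ∈ ({2, 4, 8, 8 - p} : Finset ℕ)) (hn : 2 ≤ n) (hj : n * e + 1 = p ^ j) (w ζ : ℤ)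
    (hζ : ζ = 1 ∨ ζ = -1) (hle : ((n : ℤ) - 1) * (w * w) + (w + ζ) * (w + ζ) ≤ e) :
    ¬ (p : ℤ) ∣ (n : ℤ) * w + ζ := by
  have he8 : e ≤ 8 := by
    simp only [Finset.mem_insert, Finset.mem_singleton] at he
    omega
  by_cases hw : w = 0
  · subst hw
    intro hd
    rw [mul_zero, zero_add] at hd
    have h1 := Int.natCast_dvd.mp hd
    rcases hζ with rfl | rfl <;> simp at h1 <;> omega
  have hw1 : 1 ≤ w * w := by
    rcases lt_or_gt_of_ne hw with h | h <;> nlinarith
  have hn1 : (1 : ℤ) ≤ (n : ℤ) - 1 := by omega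
  have hsq : 0 ≤ (w + ζ) * (w + ζ) := mul_self_nonneg _
  have hn9 : (n : ℤ) - 1 ≤ 8 := by nlinarith
  have hww : w * w ≤ 8 := by nlinarith
  have hwb : -2 ≤ w ∧ w ≤ 2 := by constructor <;> nlinarith
  have hn9' : n ≤ 9 := by omega
  have hj5 : j < 5 := by
    by_contra hc
    have h1 : p ^ 5 ≤ p ^ j := Nat.pow_le_pow_right (by omega) (by omega)
    have h2 : 3 ^ 5 ≤ p ^ 5 := Nat.pow_le_pow_left (by omega) 5
    have h3 : n * e ≤ 9 * 8 := Nat.mul_le_mul hn9' he8
    omega
  exact small_check p (by rcases hp with rfl | rfl <;> simp) e he n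
    (Finset.mem_Icc.mpr ⟨hn, hn9'⟩) ⟨j, hj5, hj⟩ w (Finset.mem_Icc.mpr hwb) ζ
    (by rcases hζ with rfl | rfl <;> simp) hle

variable {ι : Type*} [Fintype ι]

theorem eq_zero_of_sq_sum {D : ι → ℤ} (h : ∑ i, D i * D i = 0) (i : ι) : D i = 0 :=
  mul_self_eq_zero.mp
    ((Finset.sum_eq_zero_iff_of_nonneg fun i _ => mul_self_nonneg (D i)).mp h i (Finset.mem_univ i))

/-- A vector of norm two killed by positive weights. -/
theorem norm_two {d : ι → ℕ} (hd : ∀ i, 0 < d i) {D : ι → ℤ} (h2 : ∑ i, D i * D i = 2)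
    (h0 : ∑ i, (d i : ℤ) * D i = 0) {i : ι} (hi : D i ≠ 0) :
    (D i = 1 ∨ D i = -1) ∧ ∃ β, β ≠ i ∧ D β = -D i ∧ ∀ j, j ≠ i → j ≠ β → D j = 0 := by
  have hrest := Finset.add_sum_erase Finset.univ (fun j => D j * D j) (Finset.mem_univ i)
  rw [h2] at hrest
  have hnn : 0 ≤ ∑ j ∈ Finset.univ.erase i, D j * D j :=
    Finset.sum_nonneg fun j _ => mul_self_nonneg _
  have hi1 : D i = 1 ∨ D i = -1 := by
    have h1 : D i * D i ≤ 2 := by linarith
    have h3 : -1 ≤ D i ∧ D i ≤ 1 := by constructor <;> nlinarith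
    omega
  refine ⟨hi1, ?_⟩
  have hone : D i * D i = 1 := by rcases hi1 with h | h <;> rw [h] <;> norm_num
  rw [hone] at hrest
  obtain ⟨β, hβ, hβ0⟩ : ∃ β ∈ Finset.univ.erase i, D β ≠ 0 := by
    by_contra hc
    push Not at hc
    rw [Finset.sum_eq_zero fun j hj => by rw [hc j hj, mul_zero]] at hrest
    norm_num at hrest
  have hrest2 := Finset.add_sum_erase (Finset.univ.erase i) (fun j => D j * D j) hβ
  have hnn2 : 0 ≤ ∑ j ∈ (Finset.univ.erase i).erase β, D j * D j :=
    Finset.sum_nonneg fun j _ => mul_self_nonneg _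
  have hβpos : 1 ≤ D β * D β := by rcases lt_or_gt_of_ne hβ0 with h | h <;> nlinarith
  have hz : ∑ j ∈ (Finset.univ.erase i).erase β, D j * D j = 0 := by linarith
  have hβ1 : D β = 1 ∨ D β = -1 := by
    have h1 : D β * D β = 1 := by linarith
    rcases mul_self_eq_one_iff.mp h1 with h | h
    · exact Or.inl h
    · exact Or.inr h
  have hothers : ∀ j, j ≠ i → j ≠ β → D j = 0 := fun j hji hjβ => mul_self_eq_zero.mp
    ((Finset.sum_eq_zero_iff_of_nonneg fun j _ => mul_self_nonneg (D j)).mp hz j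
      (by simp [hji, hjβ]))
  refine ⟨β, Finset.ne_of_mem_erase hβ, ?_, hothers⟩
  have hsum : (d i : ℤ) * D i + (d β : ℤ) * D β = 0 := by
    rw [← h0, Fintype.sum_eq_add i β (Finset.ne_of_mem_erase hβ).symm fun j hj => by
      rw [hothers j hj.1 hj.2, mul_zero]]
  have hdi : (0 : ℤ) < d i := by exact_mod_cast hd i
  have hdβ : (0 : ℤ) < d β := by exact_mod_cast hd β
  rcases hi1 with h | h <;> rcases hβ1 with h' | h' <;> rw [h, h'] at hsum ⊢ <;> linarith

variable {K : Type*} [Fintype K]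

/-- The main property: sums of the entries are prime to `p`. -/
theorem not_dvd_sum {d : ι → ℕ} (hd : ∀ i, 0 < d i) (v : K → ι → ℤ) {p e : ℕ}
    (hp : p = 3 ∨ p = 5) (he : e ∈ ({2, 4, 8, 8 - p} : Finset ℕ))
    (hn : ∃ j, Fintype.card K * e + 1 = p ^ j)
    (h1 : ∀ k, ∑ i, v k i * v k i = (e : ℤ))
    (h2 : ∀ k l, k ≠ l → ∑ i, v k i * v l i = (e : ℤ) - 1)
    (h3 : ∀ k l, ∑ i, (d i : ℤ) * (v k i - v l i) = 0)
    {i : ι} (hi : ∃ k, v k i ≠ 0) : ¬ (p : ℤ) ∣ ∑ k, v k i := by
  obtain ⟨j, hj⟩ := hn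
  have hpp : p.Prime := by rcases hp with rfl | rfl <;> norm_num
  have he0 : 0 < e ∧ e ≤ 8 := by
    simp only [Finset.mem_insert, Finset.mem_singleton] at he
    omega
  have hcard : 0 < Fintype.card K := Fintype.card_pos_iff.mpr ⟨hi.choose⟩
  have hnorm : ∀ k l, k ≠ l → ∑ x, (v k x - v l x) * (v k x - v l x) = 2 := by
    intro k l hkl
    simp only [sub_mul, mul_sub, Finset.sum_sub_distrib, h1, h2 k l hkl, h2 l k hkl.symm]
    ring
  -- the column is constant or has one exceptional entry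
  by_cases hconst : ∀ k l, v k i = v l i
  · obtain ⟨k₀, hk₀⟩ := hi
    have hsum : ∑ k, v k i = (Fintype.card K : ℤ) * v k₀ i := by
      rw [Finset.sum_congr rfl fun k _ => hconst k k₀]
      simp
    rw [hsum]
    intro hd'
    rcases (Nat.prime_iff_prime_int.mp hpp).dvd_or_dvd hd' with h | h
    · have hpn : p ∣ Fintype.card K := Int.natCast_dvd_natCast.mp h
      have hj0 : j ≠ 0 := fun e' => by
        rw [e', pow_zero] at hj
        have := Nat.mul_pos hcard he0.1
        omega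
      have hpone : p ∣ Fintype.card K * e + 1 := hj ▸ dvd_pow_self p hj0
      exact hpp.ne_one (Nat.dvd_one.mp
        ((Nat.dvd_add_right (dvd_mul_of_dvd_left hpn e)).mp hpone))
    · have hle : v k₀ i * v k₀ i ≤ (e : ℤ) := h1 k₀ ▸
        Finset.single_le_sum (f := fun x => v k₀ x * v k₀ x)
          (fun x _ => mul_self_nonneg (v k₀ x)) (Finset.mem_univ i)
      obtain ⟨c, hc⟩ := h
      have hc0 : c ≠ 0 := fun e' => hk₀ (by rw [hc, e', mul_zero])
      have hc1 : 1 ≤ c * c := by rcases lt_or_gt_of_ne hc0 with h | h <;> nlinarith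
      rw [hc] at hle
      have hp9 : (9 : ℤ) ≤ (p : ℤ) * p := by rcases hp with rfl | rfl <;> norm_num
      have he8 : (e : ℤ) ≤ 8 := by exact_mod_cast he0.2
      nlinarith
  push Not at hconst
  obtain ⟨k₁, l₁, hkl₁⟩ := hconst
  have hdiff : ∀ k l, v k i - v l i = 0 ∨ v k i - v l i = 1 ∨ v k i - v l i = -1 := by
    intro k l
    by_cases h : v k i - v l i = 0
    · exact Or.inl h
    · exact Or.inr (norm_two hd (hnorm k l fun e' => h (by rw [e', sub_self])) (h3 k l) h).1
  obtain ⟨M, hM⟩ : ∃ M, ∀ k, v k i = M ∨ v k i = M - 1 := by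
    rcases hdiff k₁ l₁ with h | h | h
    · exact absurd (sub_eq_zero.mp h) hkl₁
    · exact ⟨v k₁ i, fun k => by have := hdiff k k₁; have := hdiff k l₁; omega⟩
    · exact ⟨v l₁ i, fun k => by have := hdiff k k₁; have := hdiff k l₁; omega⟩
  have hbeta : ∀ k l, v k i = M → v l i = M - 1 → ∃ β, β ≠ i ∧
      ∀ x, v k x - v l x = (if x = i then 1 else 0) - if x = β then 1 else 0 := by
    intro k l hk hl
    have hne : v k i - v l i = 1 := by omega
    have hne' : k ≠ l := fun e' => by rw [e'] at hne; omega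
    obtain ⟨β, hβi, hβ, hrest⟩ :=
      (norm_two hd (hnorm k l hne') (h3 k l) (i := i) (by omega)).2
    refine ⟨β, hβi, fun x => ?_⟩
    by_cases hxi : x = i
    · rw [hxi, if_pos rfl, if_neg hβi.symm]; omega
    · by_cases hxβ : x = β
      · rw [hxβ, if_neg hβi, if_pos rfl, hβ]; omega
      · rw [if_neg hxi, if_neg hxβ, hrest x hxi hxβ, sub_self]
  have hone : ∀ k k' l l', v k i = M → v k' i = M → v l i = M - 1 → v l' i = M - 1 →
      k ≠ k' → l ≠ l' → False := by
    intro k k' l l' hk hk' hl hl' hkk hll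
    obtain ⟨β, -, hb⟩ := hbeta k l hk hl
    obtain ⟨β', -, hb'⟩ := hbeta k' l hk' hl
    obtain ⟨γ, -, hg⟩ := hbeta k l' hk hl'
    obtain ⟨γ', -, hg'⟩ := hbeta k' l' hk' hl'
    have hββ : β ≠ β' := fun e' => by
      have h4 := hnorm k k' hkk
      rw [Finset.sum_eq_zero (fun x _ => by
        have hx := hb x
        have hx' := hb' x
        rw [e'] at hx
        have : v k x - v k' x = 0 := by omega
        rw [this, mul_zero])] at h4
      norm_num at h4
    have hγγ : γ ≠ γ' := fun e' => by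
      have h4 := hnorm k k' hkk
      rw [Finset.sum_eq_zero (fun x _ => by
        have hx := hg x
        have hx' := hg' x
        rw [e'] at hx
        have : v k x - v k' x = 0 := by omega
        rw [this, mul_zero])] at h4
      norm_num at h4
    have hβγ : β = γ := by
      by_contra hne
      have e1 := hb β
      have e2 := hb' β
      have e3 := hg β
      have e4 := hg' β
      rw [if_pos rfl] at e1
      rw [if_neg hββ] at e2
      rw [if_neg hne] at e3
      split_ifs at e1 e2 e3 e4 <;> omega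
    have h4 := hnorm l l' hll
    rw [Finset.sum_eq_zero (fun x _ => by
      have hx := hb x
      have hx' := hg x
      rw [hβγ] at hx
      have : v l x - v l' x = 0 := by omega
      rw [this, mul_zero])] at h4
    norm_num at h4
  -- one entry differs from all others
  obtain ⟨k₀, w, ζ, hζ, hk₀, hothers⟩ : ∃ (k₀ : K) (w ζ : ℤ), (ζ = 1 ∨ ζ = -1) ∧
      v k₀ i = w + ζ ∧ ∀ k, k ≠ k₀ → v k i = w := by
    obtain ⟨hi', lo', hhi, hlo⟩ : ∃ a b, v a i = M ∧ v b i = M - 1 := by
      rcases hM k₁ with h | h <;> rcases hM l₁ with h' | h'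
      · exact absurd (h.trans h'.symm) hkl₁
      · exact ⟨k₁, l₁, h, h'⟩
      · exact ⟨l₁, k₁, h', h⟩
      · exact absurd (h.trans h'.symm) hkl₁
    by_cases hu : ∀ k, v k i = M → k = hi'
    · refine ⟨hi', M - 1, 1, Or.inl rfl, by rw [hhi]; ring, fun k hk => ?_⟩
      exact (hM k).resolve_left fun h => hk (hu k h)
    · push Not at hu
      obtain ⟨hi2, h2', hne2⟩ := hu
      refine ⟨lo', M, -1, Or.inr rfl, by rw [hlo]; ring, fun k hk => ?_⟩
      exact (hM k).resolve_right fun h => hone hi2 hi' k lo' h2' hhi h hlo hne2 hk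
  have hβ : ∀ k, k ≠ k₀ → ∃ β, β ≠ i ∧ v k₀ β = w ∧
      ∀ x, v k₀ x - v k x = (if x = i then ζ else 0) - if x = β then ζ else 0 := by
    intro k hk
    have hζ0 : ζ ≠ 0 := by omega
    have hne : v k₀ i - v k i = ζ := by rw [hk₀, hothers k hk]; ring
    obtain ⟨β, hβi, hβ, hrest⟩ :=
      (norm_two hd (hnorm k₀ k hk.symm) (h3 k₀ k) (i := i) (by rw [hne]; exact hζ0)).2
    rw [hne] at hβ
    have hform : ∀ x, v k₀ x - v k x = (if x = i then ζ else 0) - if x = β then ζ else 0 := by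
      intro x
      by_cases hxi : x = i
      · rw [hxi, if_pos rfl, if_neg hβi.symm, hne, sub_zero]
      · by_cases hxβ : x = β
        · rw [hxβ, if_neg hβi, if_pos rfl, hβ, zero_sub]
        · rw [if_neg hxi, if_neg hxβ, hrest x hxi hxβ, sub_self]
    refine ⟨β, hβi, ?_, hform⟩
    have h4 : ∑ x, v k₀ x * (v k₀ x - v k x) = 1 := by
      simp only [mul_sub, Finset.sum_sub_distrib, h1, h2 k₀ k hk.symm]
      ring
    rw [Finset.sum_congr rfl (fun x _ => by rw [hform x])] at h4
    simp only [mul_sub, Finset.sum_sub_distrib, mul_ite, mul_zero, Finset.sum_ite_eq',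
      Finset.mem_univ, if_true] at h4
    rw [hk₀] at h4
    rcases hζ with rfl | rfl <;> linarith
  choose β hβi hβw hβf using hβ
  have hinj : Function.Injective (fun k : {k // k ≠ k₀} => β k.1 k.2) := by
    rintro ⟨k, hk⟩ ⟨k', hk'⟩ (e' : β k hk = β k' hk')
    refine Subtype.ext ?_
    by_contra hne
    have h4 := hnorm k k' hne
    rw [Finset.sum_eq_zero (fun x _ => by
      have hx := hβf k hk x
      have hx' := hβf k' hk' x
      rw [e'] at hx
      have : v k x - v k' x = 0 := by omega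
      rw [this, mul_zero])] at h4
    norm_num at h4
  have hle : ((Fintype.card K : ℤ) - 1) * (w * w) + (w + ζ) * (w + ζ) ≤ (e : ℤ) := by
    set B := Finset.univ.image fun k : {k // k ≠ k₀} => β k.1 k.2 with hB
    have hiB : i ∉ B := by
      rw [hB, Finset.mem_image]
      rintro ⟨k, -, hk⟩
      exact hβi k.1 k.2 hk
    have h5 := Finset.sum_le_sum_of_subset_of_nonneg (Finset.subset_univ (insert i B))
      (f := fun x => v k₀ x * v k₀ x) (fun x _ _ => mul_self_nonneg _)
    rw [h1, Finset.sum_insert hiB, hk₀, hB, Finset.sum_image (hinj.injOn)] at h5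
    rw [Finset.sum_congr rfl (fun k _ => by rw [hβw]), Finset.sum_const, Finset.card_univ,
      Fintype.card_subtype_compl, Fintype.card_subtype_eq, nsmul_eq_mul,
      Nat.cast_sub hcard] at h5
    push_cast at h5
    linarith
  have hsum : ∑ k, v k i = (Fintype.card K : ℤ) * w + ζ := by
    rw [← Finset.add_sum_erase _ _ (Finset.mem_univ k₀),
      Finset.sum_congr rfl fun k hk => hothers k (Finset.ne_of_mem_erase hk), Finset.sum_const,
      Finset.card_erase_of_mem (Finset.mem_univ k₀), Finset.card_univ, nsmul_eq_mul,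
      Nat.cast_sub hcard, hk₀]
    push_cast
    ring
  rw [hsum]
  refine not_dvd_exceptional hp he ?_ hj w ζ hζ hle
  exact Fintype.one_lt_card_iff.mpr ⟨k₁, l₁, fun e' => hkl₁ (by rw [e'])⟩

end Cfsg.Agent.SpecFive
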