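import Cfsg.Agent.SpecFive.TI
import Mathlib.GroupTheory.GroupAction.Quotient

/-!
# Normalizers of Sylow three and five subgroups when element orders are at most five
-/

set_option autoImplicit false
set_option linter.unusedSectionVars false
set_option linter.style.haveILetI false

namespace Cfsg.Agent.SpecFive

open Subgroup
open scoped Pointwise

/-- A finite group of exponent four with at most one involution has order at most eight. -/
theorem card_le_eight {S : Type*} [Group S] [Finite S] (h4 : ∀ x : S, x ^ 4 = 1)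
    (hu : ∀ x y : S, x ≠ 1 → y ≠ 1 → x ^ 2 = 1 → y ^ 2 = 1 → x = y) : Nat.card S ≤ 8 := by
  classical
  letI := Fintype.ofFinite S
  rw [Nat.card_eq_fintype_card, ← Finset.card_univ]
  by_cases hall : ∀ x : S, x ^ 2 = 1
  · have : (Finset.univ : Finset S).card ≤ 2 := by
      rw [← Finset.card_erase_add_one (Finset.mem_univ (1 : S))]
      have h1 : ((Finset.univ : Finset S).erase 1).card ≤ 1 := Finset.card_le_one.mpr fun a ha b hb =>
        hu a b (Finset.ne_of_mem_erase ha) (Finset.ne_of_mem_erase hb) (hall a) (hall b)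
      omega
    omega
  push Not at hall
  obtain ⟨x, hx⟩ := hall
  have hsq : ∀ y : S, y ^ 2 ≠ 1 → y ^ 2 = x ^ 2 := fun y hy => hu _ _ hy hx
    (by rw [← pow_mul]; exact h4 y) (by rw [← pow_mul]; exact h4 x)
  let X : Finset S := {1, x, x ^ 2, x ^ 3}
  have hX : X.card ≤ 4 := by
    refine (Finset.card_insert_le _ _).trans (Nat.succ_le_succ ?_)
    refine (Finset.card_insert_le _ _).trans (Nat.succ_le_succ ?_)
    exact (Finset.card_insert_le _ _).trans (by simp)
  have hmem : ∀ y : S, y ∈ X ↔ y = 1 ∨ y = x ∨ y = x ^ 2 ∨ y = x ^ 3 := by simp [X]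
  have hlow : ∀ y : S, y ^ 2 = 1 → y ∈ X := fun y hy => by
    rw [hmem]
    by_cases h1 : y = 1
    · exact Or.inl h1
    · exact Or.inr (Or.inr (Or.inl (hu y _ h1 hx hy (by rw [← pow_mul]; exact h4 x))))
  have hcomm : ∀ y : S, Commute x y → y ∈ X := by
    intro y hc
    by_cases hy : y ^ 2 = 1
    · exact hlow y hy
    have h1 : (x⁻¹ * y) ^ 2 = 1 := by
      rw [(hc.inv_left).mul_pow, hsq y hy, inv_pow, inv_mul_cancel]
    rw [hmem]
    by_cases h2 : x⁻¹ * y = 1
    · exact Or.inr (Or.inl (inv_mul_eq_one.mp h2).symm)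
    · refine Or.inr (Or.inr (Or.inr ?_))
      have h3 := hu _ _ h2 hx h1 (by rw [← pow_mul]; exact h4 x)
      rw [inv_mul_eq_iff_eq_mul] at h3
      rw [h3, ← pow_succ']
  have hinv : ∀ y : S, y ∉ X → y * x * y⁻¹ = x⁻¹ := by
    intro y hy
    have h1 : y ^ 2 = x ^ 2 := hsq y fun e => hy (hlow y e)
    have h2 : (x * y) ^ 2 ≠ 1 := by
      intro e
      refine hy ?_
      have h5 := hlow _ e
      rw [hmem] at h5 ⊢
      rcases h5 with e1 | e1 | e1 | e1
      · refine Or.inr (Or.inr (Or.inr ?_))
        rw [eq_inv_of_mul_eq_one_right e1]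
        exact inv_eq_of_mul_eq_one_right (by rw [← pow_succ']; exact h4 x)
      · exact Or.inl (mul_eq_left.mp e1)
      · exact Or.inr (Or.inl (mul_left_cancel (e1.trans (pow_two x))))
      · exact Or.inr (Or.inr (Or.inl (mul_left_cancel (e1.trans (pow_succ' x 2)))))
    have h3 : (x * y) ^ 2 = y ^ 2 := (hsq _ h2).trans h1.symm
    rw [pow_two, pow_two, ← mul_assoc] at h3
    have h4' := mul_right_cancel h3
    calc y * x * y⁻¹ = x⁻¹ * (x * y * x) * y⁻¹ := by group
      _ = x⁻¹ := by rw [h4']; group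
  by_cases hall2 : ∀ y : S, y ∈ X
  · exact le_trans (Finset.card_le_card fun y _ => hall2 y) (by omega)
  push Not at hall2
  obtain ⟨y, hy⟩ := hall2
  have hsub : (Finset.univ : Finset S) ⊆ X ∪ X.image (y * ·) := by
    intro z _
    rw [Finset.mem_union]
    by_cases hz : z ∈ X
    · exact Or.inl hz
    refine Or.inr (Finset.mem_image.mpr ⟨y⁻¹ * z, hcomm _ ?_, mul_inv_cancel_left _ _⟩)
    have e1 := hinv y hy
    have e2 := hinv z hz
    show x * (y⁻¹ * z) = y⁻¹ * z * x
    calc x * (y⁻¹ * z) = y⁻¹ * (y * x * y⁻¹) * z := by group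
      _ = y⁻¹ * (z * x * z⁻¹) * z := by rw [e1, e2]
      _ = y⁻¹ * z * x := by group
  refine (Finset.card_le_card hsub).trans ((Finset.card_union_le _ _).trans ?_)
  have := Finset.card_image_le (s := X) (f := (y * ·))
  omega

variable {G : Type*} [Group G] [Finite G] {p : ℕ} [Fact p.Prime]

theorem Bound.centralizer_le (h : Bound G) (hp : p = 3 ∨ p = 5) (P : Sylow p G) {x g : G}
    (hx : x ∈ P) (hx1 : x ≠ 1) (hc : Commute x g) : g ∈ P := by
  have hxp := h.pow_eq_one_of_pgroup hp P.2 hx
  have hC : IsPGroup p (centralizer ({x} : Set G)) := fun y => ⟨1, Subtype.ext (by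
    simpa using h.pow_eq_one_of_commute hp hx1 hxp
      ((mem_centralizer_singleton_iff.mp y.2).symm : Commute x y))⟩
  obtain ⟨R, hR⟩ := hC.exists_le_sylow
  by_cases e : R = P
  · exact e ▸ hR (mem_centralizer_singleton_iff.mpr hc.eq.symm)
  · exfalso
    have h1 := h.ti hp R P e
    have h2 : x ∈ (R : Subgroup G) ⊓ P := mem_inf.mpr ⟨hR (mem_centralizer_singleton_iff.mpr rfl), hx⟩
    rw [h1, mem_bot] at h2
    exact hx1 h2

theorem Bound.fusion (h : Bound G) (hp : p = 3 ∨ p = 5) (P : Sylow p G) {x g : G}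
    (hx : x ∈ P) (hx1 : x ≠ 1) (hg : g * x * g⁻¹ ∈ P) :
    g ∈ normalizer ((P : Subgroup G) : Set G) := by
  refine Sylow.smul_eq_iff_mem_normalizer.mp ?_
  by_contra hne
  have h1 := h.ti hp (g • P) P hne
  have h2 : g * x * g⁻¹ ∈ ((g • P : Sylow p G) : Subgroup G) ⊓ P :=
    mem_inf.mpr ⟨Subgroup.smul_mem_pointwise_smul x (MulAut.conj g) _ hx, hg⟩
  rw [h1, mem_bot, mul_inv_eq_one, mul_eq_left] at h2
  exact hx1 h2

theorem Bound.eq_one_of_commute_normalizer (h : Bound G) (hp : p = 3 ∨ p = 5) (P : Sylow p G)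
    {x n : G} (hx : x ∈ P) (hn : n ∉ P) (hc : Commute x n) : x = 1 :=
  by_contra fun hx1 => hn (h.centralizer_le hp P hx hx1 hc)

theorem Bound.not_mem_of_involution (h : Bound G) (hp : p = 3 ∨ p = 5) (P : Sylow p G)
    {t : G} (ht : orderOf t = 2) : t ∉ P := fun hm => by
  have h1 := orderOf_dvd_of_pow_eq_one (h.pow_eq_one_of_pgroup hp P.2 hm)
  rw [ht] at h1
  rcases hp with rfl | rfl <;> omega

/-- Involutions of the normalizer invert the Sylow subgroup. -/
theorem Bound.inverts (h : Bound G) (hp : p = 3 ∨ p = 5) (P : Sylow p G) {t : G}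
    (ht : orderOf t = 2) (htN : t ∈ normalizer ((P : Subgroup G) : Set G)) :
    ∀ x ∈ P, t * x * t = x⁻¹ := by
  have htt : t * t = 1 := by rw [← pow_two, ← ht, pow_orderOf_eq_one]
  refine inverts_of_fpf (D := (P : Subgroup G)) htt (fun u hu => ?_) fun u hu hc =>
    h.eq_one_of_commute_normalizer hp P hu (h.not_mem_of_involution hp P ht) hc
  have := (mem_normalizer_iff.mp htN u).mp hu
  rwa [inv_eq_of_mul_eq_one_right htt] at this

theorem Bound.sylow_comm (h : Bound G) (hp : p = 3 ∨ p = 5) (P : Sylow p G) {t : G}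
    (ht : orderOf t = 2) (htN : t ∈ normalizer ((P : Subgroup G) : Set G)) :
    ∀ x ∈ P, ∀ y ∈ P, Commute x y := by
  intro x hx y hy
  have htt : t * t = 1 := by rw [← pow_two, ← ht, pow_orderOf_eq_one]
  have hi := h.inverts hp P ht htN
  have e : (x * y)⁻¹ = x⁻¹ * y⁻¹ := by
    rw [← hi _ (mul_mem hx hy), ← hi x hx, ← hi y hy]
    calc t * (x * y) * t = t * x * (t * t) * y * t := by rw [htt]; group
      _ = t * x * t * (t * y * t) := by group
  have e2 := congrArg (·⁻¹) e
  simp only [inv_inv, mul_inv_rev] at e2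
  exact e2

/-- The index of a Sylow subgroup in its normalizer. -/
noncomputable def eN (P : Sylow p G) : ℕ :=
  (P : Subgroup G).relIndex (normalizer ((P : Subgroup G) : Set G))

theorem card_normalizer_sylow (P : Sylow p G) :
    Nat.card (normalizer ((P : Subgroup G) : Set G)) = eN P * Nat.card P := by
  rw [← ((P : Subgroup G).subgroupOf (normalizer ((P : Subgroup G) : Set G))).index_mul_card,
    Nat.card_congr (Subgroup.subgroupOfEquivOfLe (le_normalizer (H := (P : Subgroup G)))).toEquiv]
  rfl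

theorem eN_not_dvd (P : Sylow p G) : ¬ p ∣ eN P := fun hd =>
  P.not_dvd_index (hd.trans (relIndex_dvd_index_of_le le_normalizer))

theorem eN_pos (P : Sylow p G) : 0 < eN P :=
  Nat.pos_of_ne_zero fun e => eN_not_dvd P (e ▸ dvd_zero p)

theorem eN_dvd_card (P : Sylow p G) : eN P ∣ Nat.card G :=
  (Dvd.intro _ (card_normalizer_sylow P).symm).trans (Subgroup.card_subgroup_dvd_card _)

/-- The Sylow number, and its congruence modulo the order of a Sylow subgroup. -/
theorem card_sylow_mul (P : Sylow p G) :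
    Nat.card (Sylow p G) * (eN P * Nat.card P) = Nat.card G := by
  rw [← card_normalizer_sylow, Sylow.card_eq_index_normalizer P]
  exact Subgroup.index_mul_card _

theorem Bound.sylow_count_mod (h : Bound G) (hp : p = 3 ∨ p = 5) (P : Sylow p G) :
    Nat.card P ∣ Nat.card (Sylow p G) - 1 := by
  classical
  letI := Fintype.ofFinite (Sylow p G)
  have hfix : ∀ g : (P : Subgroup G), (g : G) • P = P := fun g =>
    Sylow.smul_eq_iff_mem_normalizer.mpr (le_normalizer g.2)
  letI : MulAction (P : Subgroup G) {R : Sylow p G // R ≠ P} :=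
    { smul := fun g R => ⟨(g : G) • R.1, fun e => R.2 (by
        have h1 := congrArg ((g : G)⁻¹ • ·) e
        simp only [inv_smul_smul] at h1
        rw [h1]
        exact hfix g⁻¹)⟩
      one_smul := fun R => Subtype.ext (one_smul G R.1)
      mul_smul := fun g g' R => Subtype.ext (mul_smul (g : G) g' R.1) }
  have hfree : ∀ R : {R : Sylow p G // R ≠ P}, MulAction.stabilizer (P : Subgroup G) R = ⊥ := by
    intro R
    rw [Subgroup.eq_bot_iff_forall]
    intro g hg
    have h1 : (g : G) • R.1 = R.1 := congrArg Subtype.val hg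
    have h2 : (g : G) ∈ (R.1 : Subgroup G) := by
      have hgN : (g : G) ∈ normalizer ((R.1 : Subgroup G) : Set G) :=
        Sylow.smul_eq_iff_mem_normalizer.mp h1
      have hzp : IsPGroup p (zpowers (g : G)) := P.2.to_le (zpowers_le.mpr g.2)
      have hsup := IsPGroup.to_sup_of_normal_right' hzp R.1.2 (zpowers_le.mpr hgN)
      rw [← R.1.3 hsup le_sup_right]
      exact mem_sup_left (mem_zpowers _)
    have h3 : (g : G) ∈ ((R.1 : Subgroup G) ⊓ P) := mem_inf.mpr ⟨h2, g.2⟩
    rw [h.ti hp R.1 P R.2, mem_bot] at h3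
    exact Subtype.ext h3
  have h1 : Nat.card {R : Sylow p G // R ≠ P} = Nat.card (Sylow p G) - 1 := by
    rw [Nat.card_eq_fintype_card, Nat.card_eq_fintype_card, Fintype.card_subtype_compl]
    simp
  rw [← h1]
  rw [Nat.card_congr (MulAction.selfEquivOrbitsQuotientProd hfree), Nat.card_prod]
  exact dvd_mul_left _ _

/-- The index is `1`, `2`, `4`, `8` or the other odd prime. -/
theorem Bound.eN_cases (h : Bound G) (hp : p = 3 ∨ p = 5) (P : Sylow p G)
    (hP : (P : Subgroup G) ≠ ⊥) :
    eN P ∈ ({1, 2, 4, 8, 8 - p} : Finset ℕ) := by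
  classical
  set N := normalizer ((P : Subgroup G) : Set G) with hN
  have hpp : p.Prime := Fact.out
  set q := 8 - p with hq
  have hq35 : q = 3 ∨ q = 5 := by rcases hp with rfl | rfl <;> omega
  have hpq : p ≠ q := by rcases hp with rfl | rfl <;> omega
  have hqp : q.Prime := by rcases hq35 with e | e <;> rw [e] <;> norm_num
  have heN : eN P ∣ Nat.card N := Dvd.intro _ (card_normalizer_sylow P).symm
  have hprimes : ∀ r : ℕ, r.Prime → r ∣ eN P → r = 2 ∨ r = q := by
    intro r hr hd
    have h1 := h.prime_dvd hr (hd.trans (eN_dvd_card P))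
    have h2 : r ≠ p := fun e => eN_not_dvd P (e ▸ hd)
    rcases hp with rfl | rfl <;> omega
  have hq2 : ¬ q ^ 2 ∣ eN P := fun hd => h.not_sq_dvd hp hq35 hpq P.2 hP le_rfl (hd.trans heN)
  by_cases h2 : 2 ∣ eN P
  · haveI : Fact (Nat.Prime 2) := ⟨Nat.prime_two⟩
    obtain ⟨t, ht⟩ := exists_prime_orderOf_dvd_card' 2 (h2.trans heN)
    rw [← Subgroup.orderOf_coe] at ht
    have htt : (t : G) * t = 1 := by rw [← pow_two, ← ht, pow_orderOf_eq_one]
    have hnq : ¬ q ∣ eN P := by
      intro hd
      haveI : Fact q.Prime := ⟨hqp⟩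
      obtain ⟨z, hz⟩ := exists_prime_orderOf_dvd_card' q (hd.trans heN)
      rw [← Subgroup.orderOf_coe] at hz
      set u : G := (z : G) * t * (z : G)⁻¹ * t
      have hu : u ∈ P := by
        obtain ⟨x, hx, hx1⟩ : ∃ x ∈ (P : Subgroup G), x ≠ 1 := by
          by_contra hc
          push Not at hc
          exact hP ((Subgroup.eq_bot_iff_forall _).mpr hc)
        refine h.centralizer_le hp P hx hx1 (Commute.symm ?_)
        have hconj : orderOf ((z : G) * t * (z : G)⁻¹) = 2 := by
          rw [← MulAut.conj_apply, MulEquiv.orderOf_eq, ht]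
        have hcN : (z : G) * t * (z : G)⁻¹ ∈ N := mul_mem (mul_mem z.2 t.2) (inv_mem z.2)
        refine commute_mul_of_inverts (h.inverts hp P ht t.2 x hx) ?_ htt
          (by rw [← pow_two, ← hconj, pow_orderOf_eq_one])
        rw [h.inverts hp P hconj hcN x⁻¹ (inv_mem hx), inv_inv]
      set w := u ^ ((p - 1) / 2)
      have hup := h.pow_eq_one_of_pgroup hp P.2 hu
      have hw : w * w = u⁻¹ := by
        refine eq_inv_of_mul_eq_one_left ?_
        rw [← pow_add, ← pow_succ]
        rw [show (p - 1) / 2 + (p - 1) / 2 + 1 = p by rcases hp with rfl | rfl <;> rfl]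
        exact hup
      have hwP : w ∈ P := pow_mem hu _
      have htw : (t : G) * w * t = w⁻¹ := h.inverts hp P ht t.2 w hwP
      have hc : Commute (t : G) (w * z) := by
        have e1 : w * u * w = 1 := by
          have e2 : u = (w * w)⁻¹ := by rw [hw, inv_inv]
          rw [e2]; group
        have e3 : (z : G) * t = u * t * z := by
          calc (z : G) * t = u * ((t : G))⁻¹ * z := by simp only [u]; group
            _ = u * t * z := by rw [inv_eq_of_mul_eq_one_right htt]
        have e4 : (t : G) * w = w⁻¹ * t := by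
          rw [← htw, mul_assoc _ (t : G) t, htt, mul_one]
        show (t : G) * (w * z) = w * z * t
        rw [← mul_assoc, e4, mul_assoc w (z : G), e3]
        have e5 : w⁻¹ = w * u := (eq_inv_of_mul_eq_one_left e1).symm
        rw [e5]
        group
      have h4 := h.pow_four_of_commute ht hc
      -- the image of `z` modulo `P` has order prime to four
      haveI : ((P : Subgroup G).subgroupOf N).Normal := normal_in_normalizer
      let π := QuotientGroup.mk' ((P : Subgroup G).subgroupOf N)
      have h5 : π (z ^ 4) = 1 := by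
        have h6 : π (⟨w, le_normalizer hwP⟩ * z) = π z := by
          rw [map_mul, show π ⟨w, le_normalizer hwP⟩ = 1 from
            (QuotientGroup.eq_one_iff _).mpr (mem_subgroupOf.mpr hwP), one_mul]
        rw [map_pow, ← h6, ← map_pow,
          show (⟨w, le_normalizer hwP⟩ * z : N) ^ 4 = 1 from Subtype.ext (by simpa using h4), map_one]
      have h7 : (z : G) ^ 4 ∈ P := by
        have := mem_subgroupOf.mp ((QuotientGroup.eq_one_iff _).mp h5)
        rwa [Subgroup.coe_pow] at this
      have h8 := orderOf_dvd_of_pow_eq_one (h.pow_eq_one_of_pgroup hp P.2 h7)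
      rw [orderOf_pow, hz] at h8
      rcases hp with rfl | rfl <;> norm_num [hq] at h8
    obtain ⟨i, hi⟩ : ∃ i, eN P = 2 ^ i := ⟨_, Nat.eq_prime_pow_of_unique_prime_dvd (eN_pos P).ne'
      fun {r} hr hd => (hprimes r hr hd).resolve_right fun e => hnq (e ▸ hd)⟩
    obtain ⟨S⟩ : Nonempty (Sylow 2 N) := inferInstance
    have h8 : eN P ≤ Nat.card S := by
      refine Nat.le_of_dvd Nat.card_pos ?_
      rw [hi]
      exact S.pow_dvd_card_of_pow_dvd_card (hi ▸ heN)
    have h9 : Nat.card S ≤ 8 := by
      refine card_le_eight (fun x => ?_) fun x y hx hy hx2 hy2 => ?_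
      · obtain ⟨j, hj⟩ := S.2 x
        obtain ⟨k, -, hk⟩ := (Nat.dvd_prime_pow Nat.prime_two).mp (orderOf_dvd_of_pow_eq_one hj)
        have hle := h ((x : N) : G)
        rw [Subgroup.orderOf_coe, Subgroup.orderOf_coe, hk] at hle
        refine orderOf_dvd_iff_pow_eq_one.mp ?_
        rw [hk]
        have hk2 : k ≤ 2 := by
          by_contra hlt
          have := Nat.pow_le_pow_right (show 0 < 2 by omega) (show 3 ≤ k by omega)
          omega
        exact (pow_dvd_pow 2 hk2 : 2 ^ k ∣ 2 ^ 2)
      · -- two involutions of `S` differ by an element of `P`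
        obtain ⟨v, hv, hv1⟩ : ∃ v ∈ (P : Subgroup G), v ≠ 1 := by
          by_contra hc
          push Not at hc
          exact hP ((Subgroup.eq_bot_iff_forall _).mpr hc)
        have hord : ∀ z : S, z ≠ 1 → z ^ 2 = 1 → orderOf ((z : N) : G) = 2 := fun z hz hz2 => by
          rw [Subgroup.orderOf_coe, Subgroup.orderOf_coe]
          exact orderOf_eq_prime hz2 hz
        have hyy : ((y : N) : G) * ((y : N) : G) = 1 := by
          rw [← pow_two]
          exact orderOf_dvd_iff_pow_eq_one.mp (dvd_of_eq (hord y hy hy2))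
        have hxx : ((x : N) : G) * ((x : N) : G) = 1 := by
          rw [← pow_two]
          exact orderOf_dvd_iff_pow_eq_one.mp (dvd_of_eq (hord x hx hx2))
        have hmem : ((x : N) : G) * ((y : N) : G) ∈ P := by
          refine h.centralizer_le hp P hv hv1 (Commute.symm ?_)
          refine commute_mul_of_inverts (h.inverts hp P (hord y hy hy2) (y : N).2 v hv) ?_ hyy hxx
          rw [h.inverts hp P (hord x hx hx2) (x : N).2 v⁻¹ (inv_mem hv), inv_inv]
        have h1 := h.pow_eq_one_of_pgroup hp P.2 hmem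
        have h3 : (x * y) ^ p = 1 := Subtype.ext (Subtype.ext (by simpa using h1))
        obtain ⟨j, hj⟩ := S.2 (x * y)
        have h2 : x * y = 1 := orderOf_eq_one_iff.mp (Nat.Coprime.eq_one_of_dvd
          ((((Nat.coprime_primes hpp Nat.prime_two).mpr (by rcases hp with rfl | rfl <;> norm_num)).pow_right
            j).coprime_dvd_left (orderOf_dvd_of_pow_eq_one h3)) (orderOf_dvd_of_pow_eq_one hj))
        rw [← pow_two] at hyy
        calc x = x * (y ^ 2) := by rw [hy2, mul_one]
          _ = x * y * y := by rw [pow_two, mul_assoc]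
          _ = y := by rw [h2, one_mul]
    have hi3 : i ≤ 3 := by
      by_contra hc
      have := Nat.pow_le_pow_right (show 0 < 2 by omega) (show 4 ≤ i by omega)
      omega
    simp only [Finset.mem_insert, Finset.mem_singleton]
    interval_cases i <;> omega
  · obtain ⟨i, hi⟩ : ∃ i, eN P = q ^ i := ⟨_, Nat.eq_prime_pow_of_unique_prime_dvd (eN_pos P).ne'
      fun {r} hr hd => (hprimes r hr hd).resolve_left fun e => h2 (e ▸ hd)⟩
    have hi1 : i ≤ 1 := by
      by_contra hc
      exact hq2 (hi ▸ pow_dvd_pow q (by omega))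
    simp only [Finset.mem_insert, Finset.mem_singleton]
    rcases Nat.le_one_iff_eq_zero_or_eq_one.mp hi1 with rfl | rfl
    · exact Or.inl (by simpa using hi)
    · exact Or.inr (Or.inr (Or.inr (Or.inr (by simpa using hi))))

end Cfsg.Agent.SpecFive
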