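import Cfsg.Agent.SpecFive.Vectors
import Cfsg.Agent.SpecFive.Degrees
import Cfsg.Agent.SpecFive.Normalizer
import Cfsg.Agent.Char.Burnside
import Cfsg.Agent.S0840

/-!
# Characters of a simple group with element orders at most five
-/

set_option autoImplicit false
set_option linter.unusedSectionVars false
set_option linter.style.haveILetI false

noncomputable section

namespace Cfsg.Agent.SpecFive

open Subgroup
open scoped ComplexConjugate Classical

universe u

variable {G : Type u} [Group G] [Fintype G]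

theorem no_comm [IsSimpleGroup G] (hG : ¬ IsMulCommutative G) :
    ¬ ∀ a b : G, a * b = b * a := fun h => hG ⟨⟨h⟩⟩

theorem eq_trivial_of_degree_one [IsSimpleGroup G] (hG : ¬ IsMulCommutative G)
    {χ : IrrCharacter G} (h1 : (χ : G → ℂ) 1 = 1) : χ = Char.trivialIrr G := by
  obtain ⟨f, hf⟩ := Char.exists_monoidHom_of_degree_one (Char.isCharacter_of_irr χ.2) h1
  rcases f.normal_ker.eq_bot_or_eq_top with hk | hk
  · refine absurd (fun a b => f.ker_eq_bot_iff.mp hk ?_) (no_comm hG)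
    rw [map_mul, map_mul, mul_comm]
  · refine Subtype.ext (funext fun g => ?_)
    rw [hf, MonoidHom.mem_ker.mp (hk ▸ Subgroup.mem_top g : g ∈ f.ker)]
    simp [Char.trivialIrr]

theorem norm_ne_degree [IsSimpleGroup G] (hG : ¬ IsMulCommutative G) {χ : IrrCharacter G}
    (hχ : χ ≠ Char.trivialIrr G) {g : G} (hg : g ≠ 1) :
    ‖(χ : G → ℂ) g‖ ≠ ((χ : G → ℂ) 1).re := by
  intro hscal
  have hcχ := Char.isCharacter_of_irr χ.2
  obtain ⟨K, hKn, hK⟩ := Char.isCharacter_exists_kernel hcχ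
  have hKbot : K = ⊥ := by
    rcases hKn.eq_bot_or_eq_top with h | h
    · exact h
    exfalso
    have hconst : ∀ x, (χ : G → ℂ) x = (χ : G → ℂ) 1 := fun x => (hK x).mp (h ▸ Subgroup.mem_top x)
    apply hχ
    have h0 : ¬ (χ : G → ℂ) ≠ fun _ => 1 := fun hne => by
      have := Char.irr_sum_eq_zero χ.2 hne
      simp [hconst] at this
      exact Char.irr_one_ne_zero χ.2 this
    exact Subtype.ext (not_not.mp h0)
  obtain ⟨ω, -, hmul⟩ := Char.isCharacter_mul_of_norm_eq hcχ hscal
  have hcen : g ∈ Subgroup.center G := by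
    refine Subgroup.mem_center_iff.mpr fun x => ?_
    have hmem : g * (x * g⁻¹ * x⁻¹) ∈ K := by
      rw [hK, (hmul _).1, Char.isCharacter_isClassFunction hcχ g⁻¹ x, ← (hmul g⁻¹).1,
        mul_inv_cancel]
    rw [hKbot, Subgroup.mem_bot] at hmem
    have h3 : g * x * g⁻¹ * x⁻¹ = 1 := by simpa [mul_assoc] using hmem
    rw [mul_inv_eq_one, mul_inv_eq_iff_eq_mul] at h3
    exact h3.symm
  rcases (inferInstance : (Subgroup.center G).Normal).eq_bot_or_eq_top with h | h
  · rw [h] at hcen; exact hg (Subgroup.mem_bot.mp hcen)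
  · exact no_comm hG fun a b => (Subgroup.mem_center_iff.mp (h ▸ Subgroup.mem_top b) a)

theorem involution_value {χ : G → ℂ} (hχ : IsCharacter G χ) {t : G} (ht : t ^ 2 = 1) {d : ℕ}
    (hd : χ 1 = d) : ∃ u : ℤ, χ t = u ∧ |u| ≤ (d : ℤ) := by
  obtain ⟨n, ρ, rfl⟩ := hχ
  obtain ⟨ε, hε, hpow⟩ := Char.exists_character_eq_sum_roots ρ t
  have h1 : ∀ i, ε i = 1 ∨ ε i = -1 := fun i => by
    have h2 : ε i ^ 2 = 1 := by
      obtain ⟨k, hk⟩ := orderOf_dvd_of_pow_eq_one ht
      rw [hk, pow_mul, hε i, one_pow]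
    rcases mul_self_eq_one_iff.mp ((pow_two (ε i)).symm.trans h2) with h | h
    · exact Or.inl h
    · exact Or.inr h
  have h3 : ρ.character t = ((∑ i, (if ε i = 1 then (1 : ℤ) else -1) : ℤ) : ℂ) := by
    have := hpow 1
    simp only [pow_one] at this
    rw [this, Int.cast_sum]
    refine Finset.sum_congr rfl fun i _ => ?_
    rcases h1 i with h | h
    · rw [if_pos h, h, Int.cast_one]
    · rw [if_neg (by rw [h]; norm_num), h, Int.cast_neg, Int.cast_one]
  refine ⟨_, h3, (Finset.abs_sum_le_sum_abs _ _).trans ?_⟩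
  rw [ρ.char_one, Nat.cast_inj] at hd
  refine (Finset.sum_le_sum (g := fun _ => (1 : ℤ)) fun i _ => ?_).trans ?_
  · split_ifs <;> simp
  · rw [Finset.sum_const, Finset.card_univ, Fintype.card_fin, hd]
    simp

variable {p : ℕ} [Fact p.Prime]

theorem Bound.fpf (h : Bound G) (hp : p = 3 ∨ p = 5) (P : Sylow p G) : Fpf (P : Subgroup G) where
  fusion := fun _ hx hx1 _ hg => h.fusion hp P hx hx1 hg
  cent := fun _ hx hx1 _ hc => h.centralizer_le hp P hx hx1 hc

theorem lin_nonempty (P : Sylow p G) (hP : (P : Subgroup G) ≠ ⊥) :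
    Nonempty (Lin (P : Subgroup G)) := by
  by_contra hc
  rw [not_nonempty_iff] at hc
  have h1 : Nat.card ((P : Subgroup G) →* ℂˣ) = 1 := by
    rw [Nat.card_eq_one_iff_unique]
    refine ⟨⟨fun f g => ?_⟩, ⟨1⟩⟩
    rw [show f = 1 from by_contra fun e => hc.false ⟨f, e⟩,
      show g = 1 from by_contra fun e => hc.false ⟨g, e⟩]
  rw [Char.card_monoidHom_complex, Subgroup.index_eq_one] at h1
  haveI : Nontrivial (P : Subgroup G) := (nontrivial_iff_ne_bot _).mpr hP
  haveI := P.2.isNilpotent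
  exact (Group.IsSolvable.commutator_lt_top_of_nontrivial (P : Subgroup G)).ne h1

theorem card_lin_add_one (P : Subgroup G) : Nat.card (Lin P) + 1 = Nat.card (P →* ℂˣ) := by
  rw [Nat.card_eq_fintype_card, Nat.card_eq_fintype_card, Fintype.card_subtype_compl,
    Fintype.card_subtype_eq]
  have : 0 < Fintype.card (P →* ℂˣ) := Fintype.card_pos_iff.mpr ⟨1⟩
  omega

theorem card_lin_eq (P : Subgroup G) (hP : Fpf P) :
    Nat.card (Lin P) = Nat.card (Quotient (relSetoid P)) * P.relIndex (normalizer (P : Set G)) := by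
  have h2 := Nat.card_congr (Equiv.sigmaFiberEquiv (Quotient.mk (relSetoid P)))
  rw [Nat.card_sigma] at h2
  rw [← h2, Finset.sum_congr rfl (fun q _ => ?_), Finset.sum_const, Finset.card_univ, smul_eq_mul,
    ← Nat.card_eq_fintype_card]
  rw [← card_rel hP q.out]
  refine Nat.card_congr (Equiv.subtypeEquivRight fun f => ?_)
  exact ⟨fun e => Quotient.exact (e.trans q.out_eq.symm),
    fun e => (Quotient.sound e).trans q.out_eq⟩

theorem Bound.eN_ne_one [IsSimpleGroup G] (hG : ¬ IsMulCommutative G) (h : Bound G)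
    (hp : p = 3 ∨ p = 5) (P : Sylow p G) (hP : (P : Subgroup G) ≠ ⊥) : eN P ≠ 1 := by
  intro he
  obtain ⟨f⟩ := lin_nonempty P hP
  have h1 := sum_vec_mul (h.fpf hp P) f f
  rw [if_pos ((rel_equivalence _).refl f), show
    (P : Subgroup G).relIndex (normalizer ((P : Subgroup G) : Set G)) = 1 from he] at h1
  choose d hd0 hd using fun χ : IrrCharacter G => Char.irr_one_pos χ.2
  have h2 := sum_degree_vec _ f d hd
  have htriv := vec_trivial (P : Subgroup G) f
  have hdt : d (Char.trivialIrr G) = 1 := by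
    have := hd (Char.trivialIrr G)
    simp only [Char.trivialIrr] at this
    exact_mod_cast this.symm
  rw [← Finset.add_sum_erase _ _ (Finset.mem_univ (Char.trivialIrr G)), htriv] at h1 h2
  rw [hdt] at h2
  set E := Finset.univ.erase (Char.trivialIrr G)
  obtain ⟨χ, hχ, hv⟩ : ∃ χ ∈ E, vec _ χ f ≠ 0 := by
    by_contra hc
    push Not at hc
    rw [Finset.sum_eq_zero fun χ hχ => by rw [hc χ hχ, mul_zero]] at h2
    norm_num at h2
  rw [← Finset.add_sum_erase _ _ hχ] at h1 h2
  have hrest : ∑ x ∈ E.erase χ, vec _ x f * vec _ x f = 0 := by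
    have h3 : 1 ≤ vec _ χ f * vec _ χ f := by rcases lt_or_gt_of_ne hv with h | h <;> nlinarith
    have h4 : 0 ≤ ∑ x ∈ E.erase χ, vec _ x f * vec _ x f :=
      Finset.sum_nonneg fun x _ => mul_self_nonneg _
    push_cast at h1
    linarith
  have hz : ∀ x ∈ E.erase χ, vec _ x f = 0 := fun x hx => mul_self_eq_zero.mp
    ((Finset.sum_eq_zero_iff_of_nonneg fun x _ => mul_self_nonneg _).mp hrest x hx)
  rw [Finset.sum_eq_zero fun x hx => by rw [hz x hx, mul_zero]] at h2
  have hd1 : d χ = 1 := by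
    have h3 : (d χ : ℤ) * vec _ χ f = -1 := by push_cast at h2; linarith
    have h4 : (d χ : ℤ) ∣ 1 := ⟨-vec _ χ f, by linarith⟩
    exact Nat.dvd_one.mp (by exact_mod_cast h4)
  exact (Finset.mem_erase.mp hχ).1 (eq_trivial_of_degree_one hG (by rw [hd, hd1, Nat.cast_one]))

/-- Degrees of the constituents met by `1 - f`. -/
theorem Bound.not_dvd_degree [IsSimpleGroup G] (hG : ¬ IsMulCommutative G) (h : Bound G)
    (hp : p = 3 ∨ p = 5) (P : Sylow p G) (hP : (P : Subgroup G) ≠ ⊥) (f : Lin (P : Subgroup G))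
    {χ : IrrCharacter G} (hχ : χ ≠ Char.trivialIrr G) (hv : vec _ χ f ≠ 0) {d₀ : ℕ}
    (hd₀ : (χ : G → ℂ) 1 = d₀) : ¬ p ∣ d₀ := by
  intro hdvd
  have hF := h.fpf hp P
  set R := relSetoid (P : Subgroup G)
  set e := (P : Subgroup G).relIndex (normalizer ((P : Subgroup G) : Set G)) with he
  choose d hd0 hd using fun χ : IrrCharacter G => Char.irr_one_pos χ.2
  have hdt : d (Char.trivialIrr G) = 1 := by
    have := hd (Char.trivialIrr G)
    simp only [Char.trivialIrr] at this
    exact_mod_cast this.symm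
  have he' : e ∈ ({2, 4, 8, 8 - p} : Finset ℕ) := by
    have h1 := h.eN_cases hp P hP
    have h2 := h.eN_ne_one hG hp P hP
    simp only [Finset.mem_insert, Finset.mem_singleton] at h1 ⊢
    exact h1.resolve_left h2
  have hn : ∃ j, Fintype.card (Quotient R) * e + 1 = p ^ j := by
    obtain ⟨i, hi⟩ := IsPGroup.iff_card.mp P.2
    obtain ⟨j, -, hj⟩ := (Nat.dvd_prime_pow (Fact.out : p.Prime)).mp
      (hi ▸ (commutator (P : Subgroup G)).index_dvd_card)
    refine ⟨j, ?_⟩
    rw [← hj, ← Char.card_monoidHom_complex, ← card_lin_add_one, card_lin_eq _ hF,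
      Nat.card_eq_fintype_card]
  let v : Quotient R → {χ : IrrCharacter G // χ ≠ Char.trivialIrr G} → ℤ := fun k χ =>
    vec (P : Subgroup G) χ.1 k.out
  have hsplit : ∀ F : IrrCharacter G → ℤ,
      ∑ χ : {χ : IrrCharacter G // χ ≠ Char.trivialIrr G}, F χ.1 =
        (∑ χ, F χ) - F (Char.trivialIrr G) := by
    intro F
    rw [← Finset.add_sum_erase _ F (Finset.mem_univ (Char.trivialIrr G)), add_sub_cancel_left]
    exact (Finset.sum_subtype _ (by simp) F).symm
  have hout : ∀ k l : Quotient R, Rel _ k.out l.out ↔ k = l := fun k l =>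
    ⟨fun e' => by rw [← k.out_eq, ← l.out_eq]; exact Quotient.sound e',
      fun e' => e' ▸ (rel_equivalence _).refl _⟩
  have key := not_dvd_sum (d := fun χ : {χ : IrrCharacter G // χ ≠ Char.trivialIrr G} => d χ.1)
    (fun χ => hd0 χ.1) v hp he' hn
    (fun k => by
      rw [hsplit (fun χ => vec _ χ k.out * vec _ χ k.out), sum_vec_mul hF, vec_trivial,
        if_pos ((rel_equivalence _).refl _)]
      ring)
    (fun k l hkl => by
      rw [hsplit (fun χ => vec _ χ k.out * vec _ χ l.out), sum_vec_mul hF, vec_trivial, vec_trivial,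
        if_neg fun e' => hkl ((hout k l).mp e')]
      ring)
    (fun k l => by
      rw [hsplit (fun χ => (d χ : ℤ) * (vec _ χ k.out - vec _ χ l.out)), vec_trivial, vec_trivial]
      simp only [mul_sub, Finset.sum_sub_distrib, sum_degree_vec _ _ d hd]
      ring)
    (i := ⟨χ, hχ⟩) ⟨Quotient.mk R f, by
      show vec _ χ (Quotient.mk R f).out ≠ 0
      rw [vec_eq_of_rel hF (Quotient.mk_out (s := R) f)]
      exact hv⟩
  refine key ?_
  have h1 := dvd_degree_add (P : Subgroup G) p P.2 hP χ hd₀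
  have hsum : ∑ f : Lin (P : Subgroup G), vec _ χ f = (e : ℤ) * ∑ k, v k ⟨χ, hχ⟩ := by
    rw [← Equiv.sum_comp (Equiv.sigmaFiberEquiv (Quotient.mk R)), Finset.mul_sum,
      Fintype.sum_sigma]
    refine Finset.sum_congr rfl fun k _ => ?_
    rw [Finset.sum_congr rfl fun (z : {f // Quotient.mk R f = k}) _ =>
      show vec _ χ ((Equiv.sigmaFiberEquiv (Quotient.mk R)) ⟨k, z⟩) = v k ⟨χ, hχ⟩ from
        vec_eq_of_rel hF (Quotient.exact (z.2.trans k.out_eq.symm)) χ]
    rw [Finset.sum_const, Finset.card_univ, nsmul_eq_mul, ← Nat.card_eq_fintype_card,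
      he, ← card_rel hF k.out]
    congr 2
    exact Nat.card_congr (Equiv.subtypeEquivRight fun g =>
      ⟨fun e' => Quotient.exact (e'.trans k.out_eq.symm),
        fun e' => (Quotient.sound e').trans k.out_eq⟩)
  rw [hsum] at h1
  have h2 : (p : ℤ) ∣ (e : ℤ) * ∑ k, v k ⟨χ, hχ⟩ :=
    (dvd_add_right (Int.natCast_dvd_natCast.mpr hdvd)).mp h1
  rcases (Nat.prime_iff_prime_int.mp (Fact.out : p.Prime)).dvd_or_dvd h2 with h3 | h3
  · exact absurd (Int.natCast_dvd_natCast.mp h3) (eN_not_dvd P)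
  · exact h3

/-- For an abelian Sylow subgroup the index divides the order less one. -/
theorem Bound.eN_dvd_sub_one (h : Bound G) (hp : p = 3 ∨ p = 5) (P : Sylow p G)
    (hcomm : ∀ x ∈ P, ∀ y ∈ P, Commute x y) : eN P ∣ Nat.card P - 1 := by
  have h1 := card_lin_add_one (P : Subgroup G)
  have h2 : Nat.card ((P : Subgroup G) →* ℂˣ) = Nat.card P := by
    rw [Char.card_monoidHom_complex]
    have : commutator (P : Subgroup G) = ⊥ := by
      rw [commutator_def, Subgroup.commutator_eq_bot_iff_le_centralizer]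
      exact fun x _ => mem_centralizer_iff.mpr fun y _ => Subtype.ext (hcomm y y.2 x x.2)
    rw [this, Subgroup.index_bot]
  rw [h2, card_lin_eq _ (h.fpf hp P)] at h1
  exact ⟨Nat.card (Quotient (relSetoid (P : Subgroup G))), by
    show _ = (P : Subgroup G).relIndex _ * _
    rw [mul_comm]; omega⟩

/-- The averaged class multiplication formula. -/
theorem avg_one (t : G) (P : Subgroup G) (f : Lin P) (χ : IrrCharacter G) :
    ∑ x : P, oneSub P f.1 x * conj ((χ : G → ℂ) x) = (Nat.card P : ℂ) * vec P χ f ∧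
    ∑ x : P, conj (oneSub P f.1 x) * (χ : G → ℂ) x = (Nat.card P : ℂ) * vec P χ f := by
  have h1 := vec_spec P χ f
  rw [classInner] at h1
  have hPne : (Nat.card P : ℂ) ≠ 0 := CharInd.natCard_ne_zero
  have h2 : ∑ x : P, oneSub P f.1 x * conj ((χ : G → ℂ) x) = (Nat.card P : ℂ) * vec P χ f := by
    rw [← h1, mul_inv_cancel_left₀ hPne]
  refine ⟨h2, ?_⟩
  have h3 := congrArg conj h2
  rw [map_sum, map_mul, map_natCast, map_intCast] at h3
  rw [← h3]
  exact Finset.sum_congr rfl fun x _ => by simp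

/-- A (2,3,5)-triple through the class of an involution with odd class size. -/
theorem Bound.exists_triple [IsSimpleGroup G] [Fact (Nat.Prime 3)] [Fact (Nat.Prime 5)]
    (hG : ¬ IsMulCommutative G) (h : Bound G)
    (P : Sylow 3 G) (Q : Sylow 5 G) (hP : (P : Subgroup G) ≠ ⊥) (hQ : (Q : Subgroup G) ≠ ⊥)
    {t : G} (ht : orderOf t = 2) (hodd : Odd (centralizer ({t} : Set G)).index) :
    ∃ t' w : G, IsConj t t' ∧ orderOf w = 3 ∧ orderOf (t' * w) = 5 := by
  by_contra hc
  push Not at hc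
  obtain ⟨f⟩ := lin_nonempty P hP
  obtain ⟨f'⟩ := lin_nonempty Q hQ
  have hzero : ∀ w ∈ P, w ≠ 1 → ∀ y ∈ Q, y ≠ 1 →
      ∑ χ : IrrCharacter G,
        (χ : G → ℂ) t * (χ : G → ℂ) w * conj ((χ : G → ℂ) y) / (χ : G → ℂ) 1 = 0 := by
    intro w hw hw1 y hy hy1
    have h1 := S0840.result t w y
    rw [finsum_eq_sum_of_fintype] at h1
    have hcount : Nat.card {p : G × G // IsConj t p.1 ∧ IsConj w p.2 ∧ p.1 * p.2 = y} = 0 := by
      rw [Nat.card_eq_zero]
      refine Or.inl ⟨fun z => ?_⟩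
      obtain ⟨⟨t', w'⟩, htt, hww, e⟩ := z
      dsimp only at htt hww e
      obtain ⟨c, hcw⟩ := isConj_iff.mp hww
      refine hc t' w' htt ?_ ?_
      · rw [← hcw, ← MulAut.conj_apply, MulEquiv.orderOf_eq]
        exact orderOf_eq_prime (h.pow_eq_one_of_pgroup (Or.inl rfl) P.2 hw) hw1
      · rw [e]
        exact orderOf_eq_prime (h.pow_eq_one_of_pgroup (Or.inr rfl) Q.2 hy) hy1
    rw [hcount, Nat.cast_zero] at h1
    have hne : ∀ z : G, (Nat.card {x : G // IsConj z x} : ℂ) ≠ 0 := fun z => by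
      haveI : Nonempty {x : G // IsConj z x} := ⟨⟨z, IsConj.refl z⟩⟩
      exact Nat.cast_ne_zero.mpr Nat.card_pos.ne'
    exact (mul_eq_zero.mp h1.symm).resolve_left
      (div_ne_zero (mul_ne_zero (hne t) (hne w)) CharInd.natCard_ne_zero)
  have hsum : ∑ χ : IrrCharacter G, ((Nat.card P : ℂ) * vec _ χ f) *
      ((Nat.card Q : ℂ) * vec _ χ f') * ((χ : G → ℂ) t / (χ : G → ℂ) 1) = 0 := by
    have e : ∀ χ : IrrCharacter G, ((Nat.card P : ℂ) * vec _ χ f) *
        ((Nat.card Q : ℂ) * vec _ χ f') * ((χ : G → ℂ) t / (χ : G → ℂ) 1) =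
        ∑ w : (P : Subgroup G), ∑ y : (Q : Subgroup G),
          conj (oneSub _ f.1 w) * oneSub _ f'.1 y *
          ((χ : G → ℂ) t * (χ : G → ℂ) w * conj ((χ : G → ℂ) y) / (χ : G → ℂ) 1) := by
      intro χ
      rw [← (avg_one t _ f χ).2, ← (avg_one t _ f' χ).1, Finset.sum_mul_sum, Finset.sum_mul]
      refine Finset.sum_congr rfl fun w _ => ?_
      rw [Finset.sum_mul]
      exact Finset.sum_congr rfl fun y _ => by ring
    simp only [e]
    rw [Finset.sum_comm]
    refine Finset.sum_eq_zero fun w _ => ?_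
    rw [Finset.sum_comm]
    refine Finset.sum_eq_zero fun y _ => ?_
    rw [← Finset.mul_sum]
    by_cases hw : w = 1
    · simp [hw, oneSub_one]
    by_cases hy : y = 1
    · simp [hy, oneSub_one]
    rw [hzero w w.2 (fun e => hw (Subtype.ext e)) y y.2 (fun e => hy (Subtype.ext e)), mul_zero]
  rw [Finset.sum_eq_single (Char.trivialIrr G)] at hsum
  · rw [vec_trivial, vec_trivial] at hsum
    simp [Char.trivialIrr] at hsum
  · intro χ _ hχ
    by_cases h3 : vec _ χ f = 0
    · simp [h3]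
    by_cases h5 : vec _ χ f' = 0
    · simp [h5]
    obtain ⟨d, -, hd, hdd⟩ := Char.irr_degree_dvd_card χ.2
    have hp3 := h.not_dvd_degree hG (Or.inl rfl) P hP f hχ h3 hd
    have hp5 := h.not_dvd_degree hG (Or.inr rfl) Q hQ f' hχ h5 hd
    have hcop : d.Coprime (centralizer ({t} : Set G)).index := by
      refine Nat.coprime_of_dvd fun r hr hrd hri => ?_
      rcases h.prime_dvd hr (hrd.trans hdd) with rfl | rfl | rfl
      · exact Nat.not_even_iff_odd.mpr hodd (even_iff_two_dvd.mpr hri)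
      · exact hp3 hrd
      · exact hp5 hrd
    obtain ⟨n, ρ, hρ, hρχ⟩ := χ.2
    have hd' : Module.finrank ℂ (Fin n → ℂ) = d := by
      rw [← hρχ, ρ.char_one] at hd; exact_mod_cast hd
    rcases Char.character_eq_zero_or_norm_eq ρ t (by rw [hd']; exact hcop) with h0 | h0
    · rw [← hρχ, h0]; simp
    · refine absurd ?_ (norm_ne_degree hG hχ (g := t) (fun e => by simp [e] at ht))
      rw [← hρχ, h0]
      simp
  · simp

/-- The relation in the case of a normalizer twice as large as the Sylow subgroup. -/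
theorem Bound.case_two [IsSimpleGroup G] (hG : ¬ IsMulCommutative G) (h : Bound G)
    (hp : p = 3 ∨ p = 5) (P : Sylow p G) (hP : (P : Subgroup G) ≠ ⊥) (he : eN P = 2)
    {t : G} (ht : orderOf t = 2) {k : ℕ} (hk : Nat.card {x : G // IsConj t x} = k)
    (hpairs : ∀ x ∈ P, x ≠ 1 →
      Nat.card {z : G × G // IsConj t z.1 ∧ IsConj t z.2 ∧ z.1 * z.2 = x} = Nat.card P) :
    ∃ d D z : ℕ, 1 < d ∧ 1 < D ∧ d ∣ Nat.card G ∧ D ∣ Nat.card G ∧ ¬ p ∣ d ∧ ¬ p ∣ D ∧
      (D = d + 1 ∨ d = D + 1) ∧ z < 2 * d ∧ z < 2 * D ∧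
      Nat.card G * Nat.card P * (d * D) = k * k * z ^ 2 := by
  obtain ⟨f⟩ := lin_nonempty P hP
  have hF := h.fpf hp P
  set v : IrrCharacter G → ℤ := fun χ => vec _ χ f with hv
  have h1 := sum_vec_mul hF f f
  rw [if_pos ((rel_equivalence _).refl f), show
    (P : Subgroup G).relIndex (normalizer ((P : Subgroup G) : Set G)) = 2 from he] at h1
  push_cast at h1
  choose d hd0 hd hdd using fun χ : IrrCharacter G => Char.irr_degree_dvd_card χ.2
  have h2 := sum_degree_vec _ f d hd
  set τ := Char.trivialIrr G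
  have hτ : v τ = 1 := vec_trivial _ f
  have hdt : d τ = 1 := by
    have := hd τ
    simp only [τ, Char.trivialIrr] at this
    exact_mod_cast this.symm
  have hne : ∀ x ∈ P, x ≠ 1 → orderOf x = p := fun x hx hx1 =>
    orderOf_eq_prime (h.pow_eq_one_of_pgroup hp P.2 hx) hx1
  -- the two constituents
  have hsq : ∀ χ, v χ ≠ 0 → v χ * v χ = 1 := by
    intro χ hχ
    have hle : v χ * v χ ≤ 3 := by
      have := Finset.single_le_sum (f := fun x => v x * v x) (fun x _ => mul_self_nonneg (v x))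
        (Finset.mem_univ χ)
      simp only [v] at this ⊢
      linarith
    have hb : -1 ≤ v χ ∧ v χ ≤ 1 := by constructor <;> nlinarith
    rcases (show v χ = 1 ∨ v χ = -1 by omega) with e | e <;> rw [e] <;> norm_num
  have hcard3 : (Finset.univ.filter fun χ => v χ ≠ 0).card = 3 := by
    have e : ∑ χ ∈ Finset.univ.filter (fun χ => v χ ≠ 0), v χ * v χ = 3 := by
      rw [Finset.sum_filter_of_ne (p := fun χ => v χ ≠ 0)
        (fun χ _ (hne' : v χ * v χ ≠ 0) (e0 : v χ = 0) => hne' (by rw [e0, mul_zero]))]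
      simp only [v]; linarith
    rw [Finset.sum_congr rfl (fun χ hχ => hsq χ (Finset.mem_filter.mp hχ).2)] at e
    simp only [Finset.sum_const, nsmul_eq_mul, mul_one] at e
    exact_mod_cast e
  have hτm : τ ∈ Finset.univ.filter fun χ => v χ ≠ 0 := by simp [hτ]
  obtain ⟨α, β, hαβ, hset⟩ := Finset.card_eq_two.mp (show
    ((Finset.univ.filter fun χ => v χ ≠ 0).erase τ).card = 2 by
      rw [Finset.card_erase_of_mem hτm, hcard3])
  have hα : α ≠ τ ∧ v α ≠ 0 := by
    have : α ∈ (Finset.univ.filter fun χ => v χ ≠ 0).erase τ := by rw [hset]; simp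
    simpa using this
  have hβ : β ≠ τ ∧ v β ≠ 0 := by
    have : β ∈ (Finset.univ.filter fun χ => v χ ≠ 0).erase τ := by rw [hset]; simp
    simpa using this
  have hothers : ∀ F : IrrCharacter G → ℂ, ∑ χ, (v χ : ℂ) * F χ =
      F τ + (v α : ℂ) * F α + (v β : ℂ) * F β := by
    intro F
    rw [← Finset.add_sum_erase _ _ (Finset.mem_univ τ), hτ, Int.cast_one, one_mul, add_assoc]
    congr 1
    rw [Finset.sum_eq_add_of_mem α β (by simp [hα.1]) (by simp [hβ.1]) hαβ]
    intro χ hχ hne'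
    have hv0 : v χ = 0 := by
      by_contra h0
      have : χ ∈ (Finset.univ.filter fun χ => v χ ≠ 0).erase τ := by
        simp [h0, (Finset.mem_erase.mp hχ).1]
      rw [hset] at this
      simp only [Finset.mem_insert, Finset.mem_singleton] at this
      exact this.elim hne'.1 hne'.2
    rw [hv0, Int.cast_zero, zero_mul]
  have hdeg : (1 : ℤ) + v α * d α + v β * d β = 0 := by
    have e : ((∑ χ, (d χ : ℤ) * v χ : ℤ) : ℂ) = 0 := by
      simp only [v]
      rw [h2, Int.cast_zero]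
    push_cast at e
    rw [Finset.sum_congr rfl (fun χ _ => mul_comm _ _), hothers, hdt] at e
    have e' : (((1 : ℤ) + v α * d α + v β * d β : ℤ) : ℂ) = ((0 : ℤ) : ℂ) := by
      push_cast at e ⊢; linear_combination e
    exact_mod_cast e'
  have hd1 : ∀ χ, χ ≠ τ → 1 < d χ := fun χ hχ => by
    by_contra hle
    have hone : d χ = 1 := by have := hd0 χ; omega
    exact hχ (eq_trivial_of_degree_one hG (by rw [hd, hone, Nat.cast_one]))
  have hdα := hd1 α hα.1
  have hdβ := hd1 β hβ.1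
  have hvα := hsq α hα.2
  have hvβ := hsq β hβ.2
  have hopp : v β = -v α := by
    rcases mul_self_eq_one_iff.mp hvα with a | a <;> rcases mul_self_eq_one_iff.mp hvβ with b | b <;>
      rw [a, b] at hdeg ⊢ <;> omega
  -- values at the involution
  have ht2 : t ^ 2 = 1 := by rw [← ht, pow_orderOf_eq_one]
  obtain ⟨u, hu, hub⟩ := involution_value (Char.isCharacter_of_irr α.2) ht2 (hd α)
  obtain ⟨U, hU, hUb⟩ := involution_value (Char.isCharacter_of_irr β.2) ht2 (hd β)
  have horth : ∑ χ : IrrCharacter G, (v χ : ℂ) * (χ : G → ℂ) t = 0 := by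
    have hPne : (Nat.card P : ℂ) ≠ 0 := CharInd.natCard_ne_zero
    have e : (Nat.card P : ℂ) * ∑ χ : IrrCharacter G, (v χ : ℂ) * (χ : G → ℂ) t = 0 := by
      rw [Finset.mul_sum]
      simp only [← mul_assoc, v, ← (avg_one t _ f _).1, Finset.sum_mul]
      rw [Finset.sum_comm]
      refine Finset.sum_eq_zero fun x _ => ?_
      by_cases hx : x = 1
      · simp [hx, oneSub_one]
      simp only [mul_assoc, ← Finset.mul_sum]
      rw [show ∑ χ : IrrCharacter G, conj ((χ : G → ℂ) (x : G)) * (χ : G → ℂ) t =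
        ∑ χ : IrrCharacter G, (χ : G → ℂ) t * conj ((χ : G → ℂ) (x : G)) from
          Finset.sum_congr rfl fun χ _ => mul_comm _ _, Char.sum_irr_mul_conj, if_neg, mul_zero]
      intro hconj
      obtain ⟨c, hc⟩ := isConj_iff.mp hconj
      have e1 := hne x x.2 fun e => hx (Subtype.ext e)
      rw [← hc, ← MulAut.conj_apply, MulEquiv.orderOf_eq, ht] at e1
      rcases hp with rfl | rfl <;> omega
    exact (mul_eq_zero.mp e).resolve_left hPne
  have hUu : 1 + v α * u + v β * U = 0 := by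
    rw [hothers, hu, hU] at horth
    have e : ((1 + v α * u + v β * U : ℤ) : ℂ) = ((0 : ℤ) : ℂ) := by
      have h0 : (τ : G → ℂ) t = 1 := rfl
      rw [h0] at horth
      push_cast
      linear_combination horth
    exact_mod_cast e
  -- the averaged formula
  have hmain : (Nat.card G : ℂ) * Nat.card P =
      (k : ℂ) * k * ∑ χ : IrrCharacter G, (v χ : ℂ) * ((χ : G → ℂ) t * (χ : G → ℂ) t /
        (χ : G → ℂ) 1) := by
    have hPne : (Nat.card P : ℂ) ≠ 0 := CharInd.natCard_ne_zero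
    have hGne : (Nat.card G : ℂ) ≠ 0 := CharInd.natCard_ne_zero
    have hx : ∀ x : (P : Subgroup G), oneSub _ f.1 x * (Nat.card P : ℂ) =
        oneSub _ f.1 x * ((k : ℂ) * k / Nat.card G * ∑ χ : IrrCharacter G,
          (χ : G → ℂ) t * (χ : G → ℂ) t * conj ((χ : G → ℂ) x) / (χ : G → ℂ) 1) := by
      intro x
      by_cases hx : x = 1
      · simp [hx, oneSub_one]
      have e := S0840.result t t (x : G)
      rw [finsum_eq_sum_of_fintype, hk, hpairs x x.2 fun e => hx (Subtype.ext e)] at e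
      rw [← e]
    have e1 := Finset.sum_congr rfl fun x (_ : x ∈ (Finset.univ : Finset (P : Subgroup G))) => hx x
    rw [← Finset.sum_mul] at e1
    have hone : ∑ x : (P : Subgroup G), oneSub _ f.1 x = (Nat.card P : ℂ) := by
      simp only [oneSub, Pi.sub_apply, Finset.sum_sub_distrib, Char.monoidHom_sum_eq_zero f.2,
        sub_zero, Finset.sum_const, Finset.card_univ, nsmul_eq_mul, mul_one]
      rw [Nat.card_eq_fintype_card]
    rw [hone] at e1
    have e2 : ∀ x : (P : Subgroup G), oneSub _ f.1 x * ((k : ℂ) * k / Nat.card G *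
        ∑ χ : IrrCharacter G,
          (χ : G → ℂ) t * (χ : G → ℂ) t * conj ((χ : G → ℂ) x) / (χ : G → ℂ) 1) =
        (k : ℂ) * k / Nat.card G * ∑ χ : IrrCharacter G, (oneSub _ f.1 x *
          conj ((χ : G → ℂ) x)) * ((χ : G → ℂ) t * (χ : G → ℂ) t / (χ : G → ℂ) 1) := fun x => by
      rw [Finset.mul_sum, Finset.mul_sum, Finset.mul_sum]
      exact Finset.sum_congr rfl fun χ _ => by ring
    simp only [e2] at e1
    rw [← Finset.mul_sum, Finset.sum_comm] at e1
    simp only [← Finset.sum_mul, (avg_one t _ f _).1] at e1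
    simp only [mul_assoc (Nat.card P : ℂ), ← Finset.mul_sum] at e1
    field_simp at e1
    simp only [v]
    rw [Finset.sum_congr rfl fun (χ : IrrCharacter G) _ =>
      show (vec _ χ f : ℂ) * ((χ : G → ℂ) t * (χ : G → ℂ) t / (χ : G → ℂ) 1) =
        (vec _ χ f : ℂ) * (χ : G → ℂ) t ^ 2 / (χ : G → ℂ) 1 by ring]
    linear_combination e1
  have hz : ((Nat.card G * Nat.card P * (d α * d β) : ℕ) : ℤ) =
      ((k * k : ℕ) : ℤ) * ((d α : ℤ) - u) ^ 2 := by
    rw [hothers] at hmain
    have h0 : (τ : G → ℂ) t = 1 := rfl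
    have h01 : (τ : G → ℂ) 1 = 1 := rfl
    rw [h0, h01, hu, hU, hd, hd] at hmain
    have hαne : (d α : ℂ) ≠ 0 := Nat.cast_ne_zero.mpr (by omega)
    have hβne : (d β : ℂ) ≠ 0 := Nat.cast_ne_zero.mpr (by omega)
    have hDd : (d β : ℂ) = (d α : ℂ) + v α := by
      have e : (d β : ℤ) = d α + v α := by
        rw [hopp] at hdeg
        rcases mul_self_eq_one_iff.mp hvα with a | a <;> rw [a] at hdeg ⊢ <;> omega
      exact_mod_cast congrArg (fun z : ℤ => (z : ℂ)) e
    have hUd : (U : ℂ) = (u : ℂ) + v α := by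
      have e : U = u + v α := by
        rw [hopp] at hUu
        rcases mul_self_eq_one_iff.mp hvα with a | a <;> rw [a] at hUu ⊢ <;> omega
      exact_mod_cast congrArg (fun z : ℤ => (z : ℂ)) e
    have hvv : (v α : ℂ) * v α = 1 := by exact_mod_cast congrArg (fun z : ℤ => (z : ℂ)) hvα
    rw [hopp, Int.cast_neg] at hmain
    field_simp at hmain
    suffices hs : ((Nat.card G * Nat.card P * (d α * d β) : ℕ) : ℂ) =
        ((k * k : ℕ) : ℂ) * ((d α : ℂ) - u) ^ 2 by exact_mod_cast hs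
    push_cast
    rw [hUd, hDd] at hmain
    rw [hDd]
    rcases mul_self_eq_one_iff.mp hvα with a | a <;> rw [a] at hmain ⊢ <;> push_cast at hmain ⊢ <;>
      linear_combination hmain
  have hvne : ∀ χ, χ ≠ τ → v χ ≠ 0 → ¬ p ∣ d χ := fun χ h1' h2' =>
    h.not_dvd_degree hG hp P hP f h1' h2' (hd χ)
  have hstrict : ∀ χ : IrrCharacter G, χ ≠ τ → ∀ x : ℤ, (χ : G → ℂ) t = x → |x| ≤ d χ →
      |x| < (d χ : ℤ) := by
    intro χ hχ x hx hxb
    refine lt_of_le_of_ne hxb fun e => norm_ne_degree hG hχ (g := t) (fun e => by simp [e] at ht) ?_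
    rw [hx, hd]
    simp only [Complex.norm_intCast, Complex.natCast_re]
    exact_mod_cast e
  have hu' := hstrict α hα.1 u hu hub
  have hU' := hstrict β hβ.1 U hU hUb
  refine ⟨d α, d β, ((d α : ℤ) - u).natAbs, hdα, hdβ, hdd α, hdd β, hvne α hα.1 hα.2,
    hvne β hβ.1 hβ.2, ?_, ?_, ?_, ?_⟩
  · rw [hopp] at hdeg
    rcases mul_self_eq_one_iff.mp hvα with a | a <;> rw [a] at hdeg <;> omega
  · rw [abs_lt] at hu'; omega
  · rw [hopp] at hdeg hUu
    rw [abs_lt] at hu' hU'
    rcases mul_self_eq_one_iff.mp hvα with a | a <;> rw [a] at hdeg hUu <;> omega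
  · have e : ((Nat.card G * Nat.card P * (d α * d β) : ℕ) : ℤ) =
        ((k * k * ((d α : ℤ) - u).natAbs ^ 2 : ℕ) : ℤ) := by
      rw [hz]; push_cast; rw [sq_abs]
    exact_mod_cast e

end Cfsg.Agent.SpecFive
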