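import Cfsg.Agent.SpecFive.Basic
import Mathlib.GroupTheory.Nilpotent
import Mathlib.Data.Fintype.Lattice

/-!
# Sylow three and five subgroups meet trivially when element orders are at most five
-/

set_option autoImplicit false
set_option linter.unusedSectionVars false

namespace Cfsg.Agent.SpecFive

open Subgroup

variable {G : Type*} [Group G] [Finite G]

/-- An `r`-subgroup normalising a non-trivial `p`-subgroup has order at most `r`. -/
theorem Bound.not_sq_dvd (h : Bound G) {p r : ℕ} (hp : p = 3 ∨ p = 5) (hr : r = 3 ∨ r = 5)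
    (hpr : p ≠ r) {D : Subgroup G} (hDp : IsPGroup p D) (hD : D ≠ ⊥) {M : Subgroup G}
    (hM : M ≤ normalizer (D : Set G)) : ¬ r ^ 2 ∣ Nat.card M := by
  intro hd
  have hpp : p.Prime := by rcases hp with rfl | rfl <;> norm_num
  have hrp : r.Prime := by rcases hr with rfl | rfl <;> norm_num
  haveI : Fact p.Prime := ⟨hpp⟩
  haveI : Fact r.Prime := ⟨hrp⟩
  obtain ⟨R, hR⟩ := Sylow.exists_subgroup_card_pow_prime r hd
  have hRcomm := IsPGroup.commutative_of_card_eq_prime_sq (G := R) hR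
  haveI : Nontrivial R := Finite.one_lt_card_iff_nontrivial.mp (by
    rw [hR]; exact Nat.one_lt_pow (by norm_num) hrp.one_lt)
  obtain ⟨x, hx⟩ := exists_ne (1 : R)
  have hexp : ∀ z : R, ((z : M) : G) ^ r = 1 := fun z =>
    h.pow_eq_one_of_pgroup hr ((IsPGroup.of_card (G := R) hR).map M.subtype) (mem_map_of_mem _ z.2)
  obtain ⟨y, hy⟩ : ∃ y : R, (y : M) ∉ zpowers (x : M) := by
    by_contra hc
    push Not at hc
    have h1 := Subgroup.card_le_of_le (show R ≤ zpowers (x : M) from fun z hz => hc ⟨z, hz⟩)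
    rw [hR, Nat.card_zpowers] at h1
    have h2 : orderOf (x : M) ∣ r := orderOf_dvd_of_pow_eq_one (Subtype.ext (by simpa using hexp x))
    have h3 := Nat.le_of_dvd hrp.pos h2
    have h4 : r * 2 ≤ r * r := Nat.mul_le_mul_left r hrp.two_le
    rw [pow_two] at h1
    have := hrp.pos
    omega
  -- the centre of `D`
  set V := (center D).map D.subtype with hV
  have hVD : V ≤ D := map_subtype_le _
  have hVc : ∀ a ∈ V, ∀ b ∈ V, Commute a b := by
    rintro _ ⟨a, ha, rfl⟩ _ ⟨b, hb, rfl⟩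
    exact congrArg (Subtype.val : D → G) (mem_center_iff.mp hb a)
  have hV1 : V ≠ ⊥ := by
    intro e
    haveI : Nontrivial D := (nontrivial_iff_ne_bot _).mpr hD
    haveI := hDp.center_nontrivial
    obtain ⟨v, hv⟩ := exists_ne (1 : center D)
    have h1 : ((v : D) : G) ∈ V := mem_map_of_mem D.subtype v.2
    rw [e, mem_bot] at h1
    exact hv (Subtype.ext (Subtype.ext h1))
  have hMV : normalizer (D : Set G) ≤ normalizer (V : Set G) := by
    have key : ∀ m ∈ normalizer (D : Set G), ∀ v ∈ V, m * v * m⁻¹ ∈ V := by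
      rintro m hm _ ⟨v, hv, rfl⟩
      refine ⟨⟨m * v * m⁻¹, (mem_normalizer_iff.mp hm _).mp v.2⟩, mem_center_iff.mpr fun w => ?_,
        rfl⟩
      have hw : m⁻¹ * w * m ∈ D := (mem_normalizer_iff''.mp hm _).mp w.2
      have h2 : (m⁻¹ * w * m) * (v : G) = (v : G) * (m⁻¹ * w * m) :=
        congrArg Subtype.val (mem_center_iff.mp hv ⟨_, hw⟩)
      refine Subtype.ext ?_
      show (w : G) * (m * v * m⁻¹) = m * v * m⁻¹ * w
      calc (w : G) * (m * v * m⁻¹) = m * ((m⁻¹ * w * m) * v) * m⁻¹ := by group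
        _ = m * ((v : G) * (m⁻¹ * w * m)) * m⁻¹ := by rw [h2]
        _ = m * v * m⁻¹ * w := by group
    intro m hm
    rw [mem_normalizer_iff]
    intro v
    refine ⟨key m hm v, fun hv => ?_⟩
    have := key m⁻¹ (inv_mem hm) _ hv
    simpa [mul_assoc] using this
  refine false_of_pair hVc hV1 hpp hrp hpr (fun v hv => h.pow_eq_one_of_pgroup hp hDp (hVD hv))
    (hMV (hM (x : M).2)) (hMV (hM (y : M).2)) ?_ (fun e => hx (Subtype.ext (Subtype.ext e)))
    (hexp x) (hexp y) ?_ ?_
  · exact congrArg (fun z : R => ((z : M) : G)) (hRcomm x y)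
  · intro hm
    obtain ⟨i, hi⟩ := mem_zpowers_iff.mp hm
    exact hy (mem_zpowers_iff.mpr ⟨i, Subtype.ext (by simpa using hi)⟩)
  · intro a ha har v hv hc
    by_contra hv1
    exact h.not_commute_primes (orderOf_eq_prime (h.pow_eq_one_of_pgroup hp hDp (hVD hv)) hv1)
      (orderOf_eq_prime har ha) hpp hrp hpr hc

/-- Distinct Sylow `p`-subgroups meet trivially, `p = 3, 5`. -/
theorem Bound.ti (h : Bound G) {p : ℕ} [Fact p.Prime] (hp : p = 3 ∨ p = 5) (P Q : Sylow p G)
    (hPQ : P ≠ Q) : (P : Subgroup G) ⊓ Q = ⊥ := by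
  classical
  by_contra hne0
  let f : Sylow p G × Sylow p G → ℕ := fun z =>
    if z.1 = z.2 then 0 else Nat.card ((z.1 : Subgroup G) ⊓ z.2 : Subgroup G)
  obtain ⟨⟨P₀, Q₀⟩, hmax⟩ := Finite.exists_max f
  have hbig : 1 < f (P, Q) := by
    simp only [f, if_neg hPQ]
    exact (one_lt_card_iff_ne_bot _).mpr hne0
  have hne : P₀ ≠ Q₀ := fun e => by
    have h1 := hmax (P, Q)
    simp only [f, e, if_true] at h1 hbig
    omega
  set D : Subgroup G := (P₀ : Subgroup G) ⊓ Q₀ with hD
  have hDcard : 1 < Nat.card D := by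
    have h1 := hmax (P, Q)
    simp only [f, if_neg hne, hD] at h1 hbig ⊢
    omega
  have hDmax : ∀ R R' : Sylow p G, R ≠ R' → ¬ D < (R : Subgroup G) ⊓ R' := by
    intro R R' hR hlt
    have h1 := hmax (R, R')
    simp only [f, if_neg hne, if_neg hR, ← hD] at h1
    exact hlt.ne (Subgroup.eq_of_le_of_card_ge hlt.le h1)
  set M := normalizer (D : Set G) with hM
  have hDM : D ≤ M := le_normalizer
  have hDp : IsPGroup p D := P₀.2.to_le inf_le_left
  have hDP : ∀ R : Sylow p G, D ≤ (R : Subgroup G) → ∀ R' : Sylow p G, R ≠ R' →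
      D ≤ (R' : Subgroup G) → D < (R : Subgroup G) ⊓ M := by
    intro R hR R' hRR' hR'
    have hlt : D < (R : Subgroup G) := by
      refine lt_of_le_of_ne hR fun e => hRR' ?_
      refine Sylow.ext (Subgroup.eq_of_le_of_card_ge (e ▸ hR') ?_)
      rw [Sylow.card_eq_multiplicity, Sylow.card_eq_multiplicity]
    haveI := R.2.isNilpotent
    have h1 := Group.normalizerCondition_of_isNilpotent (G := (R : Subgroup G)) (D.subgroupOf R)
      (lt_top_iff_ne_top.mpr fun e => hlt.not_ge (subgroupOf_eq_top.mp e))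
    obtain ⟨z, hz, hzD⟩ := SetLike.exists_of_lt h1
    refine lt_of_le_of_ne (le_inf hR hDM) fun e => hzD ?_
    have : (z : G) ∈ (R : Subgroup G) ⊓ M := by
      refine mem_inf.mpr ⟨z.2, ?_⟩
      rw [hM, mem_normalizer_iff]
      intro u
      rw [mem_normalizer_iff] at hz
      constructor
      · intro hu
        exact (hz ⟨u, hR hu⟩).mp hu
      · intro hu
        have h2 : (z : G) * u * (z : G)⁻¹ ∈ (R : Subgroup G) := hR hu
        have hu' : u ∈ (R : Subgroup G) := by
          have := mul_mem (mul_mem (inv_mem z.2) h2) z.2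
          rwa [show (z : G)⁻¹ * ((z : G) * u * (z : G)⁻¹) * z = u by group] at this
        exact (hz ⟨u, hu'⟩).mpr hu
    rw [← e] at this
    exact this
  have hP0 := hDP P₀ inf_le_left Q₀ hne inf_le_right
  have hQ0 := hDP Q₀ inf_le_right P₀ hne.symm inf_le_left
  -- normal `p`-subgroups of `M` lie in `D`
  have hOp : ∀ U : Subgroup G, U ≤ M → IsPGroup p U → M ≤ normalizer (U : Set G) → U ≤ D := by
    intro U hUM hUp hMU
    have key : ∀ R : Sylow p G, D < (R : Subgroup G) ⊓ M → U ≤ (R : Subgroup G) := by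
      intro R hR
      have h1 : IsPGroup p (((R : Subgroup G) ⊓ M) ⊔ U : Subgroup G) :=
        (R.2.to_le inf_le_left).to_sup_of_normal_right' hUp (inf_le_right.trans hMU)
      obtain ⟨R', hR'⟩ := h1.exists_le_sylow
      by_cases e : R = R'
      · exact e ▸ le_sup_right.trans hR'
      · exact absurd (hR.trans_le (le_inf inf_le_left (le_sup_left.trans hR'))) (hDmax R R' e)
    exact le_inf (key P₀ hP0) (key Q₀ hQ0)
  -- some element of `D`
  obtain ⟨x₀, hx₀D, hx₀⟩ : ∃ x ∈ D, x ≠ (1 : G) := by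
    by_contra hc
    push Not at hc
    rw [(Subgroup.eq_bot_iff_forall D).mpr hc, Subgroup.card_bot] at hDcard
    omega
  have hexp : ∀ u ∈ D, u ^ p = 1 := fun u hu => h.pow_eq_one_of_pgroup hp hDp hu
  have hp2 : p ≠ 2 := by rcases hp with rfl | rfl <;> norm_num
  have hcent : ∀ z ∈ M, (∀ u ∈ D, Commute u z) → z ∈ D := by
    intro z hz hzc
    refine hOp (M ⊓ centralizer (D : Set G)) inf_le_left (fun y => ⟨1, Subtype.ext ?_⟩) ?_
      ⟨hz, mem_centralizer_iff.mpr hzc⟩
    · simpa using h.pow_eq_one_of_commute hp hx₀ (hexp _ hx₀D)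
        (mem_centralizer_iff.mp y.2.2 x₀ hx₀D)
    · intro m hm
      rw [mem_normalizer_iff]
      have key : ∀ m ∈ M, ∀ u ∈ M ⊓ centralizer (D : Set G),
          m * u * m⁻¹ ∈ M ⊓ centralizer (D : Set G) := by
        rintro m hm u ⟨hu, huc⟩
        refine mem_inf.mpr ⟨mul_mem (mul_mem hm hu) (inv_mem hm), mem_centralizer_iff.mpr fun v hv => ?_⟩
        have hv' : m⁻¹ * v * m ∈ D := (mem_normalizer_iff''.mp hm v).mp hv
        have h2 := mem_centralizer_iff.mp huc _ hv'
        calc v * (m * u * m⁻¹) = m * (m⁻¹ * v * m * u) * m⁻¹ := by group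
          _ = m * (u * (m⁻¹ * v * m)) * m⁻¹ := by rw [h2]
          _ = m * u * m⁻¹ * v := by group
      intro u
      refine ⟨key m hm u, fun hu => ?_⟩
      have := key m⁻¹ (inv_mem hm) _ hu
      simpa [mul_assoc] using this
  obtain ⟨y₀, hy₀, hy₀D⟩ := SetLike.exists_of_lt hP0
  -- `M` has odd order
  have hodd : Odd (Nat.card M) := by
    rw [← Nat.not_even_iff_odd, even_iff_two_dvd]
    intro h2
    haveI : Fact (Nat.Prime 2) := ⟨Nat.prime_two⟩
    obtain ⟨t, ht⟩ := exists_prime_orderOf_dvd_card' 2 h2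
    have hto : orderOf (t : G) = 2 := by rw [Subgroup.orderOf_coe, ht]
    have htt : (t : G) * t = 1 := by rw [← pow_two, ← hto, pow_orderOf_eq_one]
    have hnc : ∀ u : G, u ^ p = 1 → Commute u (t : G) → u = 1 := fun u hu hc =>
      h.eq_one_of_commute_involution hp hu hto hc
    have hti : (t : G)⁻¹ = t := inv_eq_of_mul_eq_one_right htt
    have hconjD : ∀ u ∈ D, (t : G) * u * t ∈ D := fun u hu => by
      have := (mem_normalizer_iff.mp t.2 u).mp hu
      rwa [hti] at this
    -- `t` inverts `D`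
    have hinv : ∀ u ∈ D, (t : G) * u * t = u⁻¹ := by
      let φ : D → D := fun u => ⟨(u : G)⁻¹ * ((t : G) * u * t), mul_mem (inv_mem u.2) (hconjD u u.2)⟩
      have hφ : Function.Injective φ := by
        intro u v huv
        have e : (u : G)⁻¹ * ((t : G) * u * t) = (v : G)⁻¹ * ((t : G) * v * t) :=
          congrArg Subtype.val huv
        have h1 : Commute ((v : G) * (u : G)⁻¹) (t : G) := by
          show _ = _
          calc (v : G) * (u : G)⁻¹ * t
              = (v : G) * ((u : G)⁻¹ * ((t : G) * u * t)) * ((t : G)⁻¹ * (u : G)⁻¹) := by group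
            _ = (v : G) * ((v : G)⁻¹ * ((t : G) * v * t)) * ((t : G)⁻¹ * (u : G)⁻¹) := by rw [e]
            _ = (t : G) * ((v : G) * (u : G)⁻¹) := by group
        exact Subtype.ext (mul_inv_eq_one.mp
          (hnc _ (hexp _ (mul_mem v.2 (inv_mem u.2))) h1)).symm
      intro u hu
      obtain ⟨w, hw⟩ := (Finite.injective_iff_bijective.mp hφ).2 ⟨u, hu⟩
      have hw' : (w : G)⁻¹ * ((t : G) * w * t) = u := congrArg Subtype.val hw
      rw [← hw']
      calc (t : G) * ((w : G)⁻¹ * ((t : G) * w * t)) * t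
          = (t : G) * (w : G)⁻¹ * (t : G) * (w : G) * ((t : G) * t) := by group
        _ = (t : G) * (w : G)⁻¹ * (t : G) * (w : G) := by rw [htt, mul_one]
        _ = ((w : G)⁻¹ * ((t : G)⁻¹ * (w : G) * (t : G)⁻¹))⁻¹ := by group
        _ = ((w : G)⁻¹ * ((t : G) * w * t))⁻¹ := by rw [hti]
    have hy₀p : y₀ ^ p = 1 := h.pow_eq_one_of_pgroup hp P₀.2 hy₀.1
    have hy₀M := hy₀.2
    -- `t` and its conjugate agree modulo `D`
    set u := y₀ * t * y₀⁻¹ with hu
    have huu : u * u = 1 := by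
      rw [hu, show y₀ * t * y₀⁻¹ * (y₀ * t * y₀⁻¹) = y₀ * (t * t) * y₀⁻¹ by group, htt]; group
    have huinv : ∀ v ∈ D, u * v * u = v⁻¹ := by
      intro v hv
      have hv' : y₀⁻¹ * v * y₀ ∈ D := (mem_normalizer_iff''.mp hy₀M v).mp hv
      rw [hu, show y₀ * t * y₀⁻¹ * v * (y₀ * t * y₀⁻¹) =
        y₀ * (t * (y₀⁻¹ * v * y₀) * t) * y₀⁻¹ by group, hinv _ hv']
      group
    have hz : (t : G) * u ∈ D := by
      refine hcent _ (mul_mem t.2 (mul_mem (mul_mem hy₀M t.2) (inv_mem hy₀M))) fun v hv => ?_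
      show v * ((t : G) * u) = (t : G) * u * v
      calc v * ((t : G) * u) = v * ((t : G) * (v * v⁻¹) * u) := by group
        _ = v * ((t : G) * v * ((t : G) * t) * (u * v * u) * u) := by rw [huinv v hv, htt]; group
        _ = v * (((t : G) * v * t) * ((t : G) * u) * v * (u * u)) := by group
        _ = (t : G) * u * v := by rw [hinv v hv, huu]; group
    -- a square root
    set z := (t : G) * u with hz'
    have hw : y₀⁻¹ * z * y₀ ∈ D := (mem_normalizer_iff''.mp hy₀M z).mp hz
    obtain ⟨c, hc⟩ := (Fact.out : p.Prime).odd_of_ne_two hp2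
    set e := (y₀⁻¹ * z * y₀) ^ (c + 1) with he
    have hee : e * e = y₀⁻¹ * z * y₀ := by
      rw [he, ← pow_add, show c + 1 + (c + 1) = p + 1 by omega, pow_succ, hexp _ hw, one_mul]
    have hcomm : Commute (y₀ * e) (t : G) := by
      have h1 : e * t = t * e⁻¹ := by
        rw [← hinv e (pow_mem hw _), ← mul_assoc, ← mul_assoc, htt, one_mul]
      show y₀ * e * t = t * (y₀ * e)
      calc y₀ * e * t = y₀ * (e * t) := by group
        _ = y₀ * t * e⁻¹ := by rw [h1]; group
        _ = u * y₀ * e⁻¹ := by rw [hu]; group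
        _ = (t : G)⁻¹ * z * y₀ * e⁻¹ := by rw [hz']; group
        _ = (t : G) * (y₀ * (y₀⁻¹ * z * y₀)) * e⁻¹ := by rw [hti]; group
        _ = (t : G) * (y₀ * e) := by rw [← hee]; group
    have hmem : y₀ * e ∈ (P₀ : Subgroup G) := mul_mem hy₀.1 (pow_mem hw _).1
    have h1 := hnc _ (h.pow_eq_one_of_pgroup hp P₀.2 hmem) hcomm
    exact hy₀D (by rw [eq_inv_of_mul_eq_one_left h1]; exact inv_mem (pow_mem hw _))
  -- `M` has odd order
  have hpp : p.Prime := Fact.out
  have hDne : D ≠ ⊥ := (one_lt_card_iff_ne_bot _).mp hDcard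
  obtain ⟨r, hr, hpr, hrp1⟩ : ∃ r : ℕ, (r = 3 ∨ r = 5) ∧ p ≠ r ∧ ¬ r % p = 1 := by
    rcases hp with rfl | rfl
    · exact ⟨5, Or.inr rfl, by norm_num, by norm_num⟩
    · exact ⟨3, Or.inl rfl, by norm_num, by norm_num⟩
  have hrpr : r.Prime := by rcases hr with rfl | rfl <;> norm_num
  obtain ⟨S⟩ : Nonempty (Sylow p M) := inferInstance
  have hidx : (S : Subgroup M).index ∣ r := by
    have hall : ∀ {u : ℕ}, u.Prime → u ∣ (S : Subgroup M).index → u = r := by
      intro u hu hud
      have hun : u ∣ Nat.card M := hud.trans (Subgroup.index_dvd_card _)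
      have h1 := h.prime_dvd hu (hun.trans (Subgroup.card_subgroup_dvd_card M))
      have h2 : u ≠ p := fun e => S.not_dvd_index (e ▸ hud)
      have h3 : u ≠ 2 := fun e => Nat.not_even_iff_odd.mpr hodd (even_iff_two_dvd.mpr (e ▸ hun))
      rcases hp with rfl | rfl <;> rcases hr with rfl | rfl <;> omega
    have h1 := Nat.eq_prime_pow_of_unique_prime_dvd Subgroup.index_ne_zero_of_finite hall
    rw [h1]
    set i := (S : Subgroup M).index.primeFactorsList.length
    by_contra hi
    refine h.not_sq_dvd hp hr hpr hDp hDne (M := M) le_rfl ?_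
    refine dvd_trans ?_ ((dvd_of_eq h1.symm).trans (Subgroup.index_dvd_card _))
    refine pow_dvd_pow r ?_
    by_contra hlt
    have h4 := pow_dvd_pow r (show i ≤ 1 by omega)
    rw [pow_one] at h4
    exact hi h4
  have hone : Nat.card (Sylow p M) = 1 := by
    have h1 := (S.card_dvd_index).trans hidx
    have h2 := card_sylow_modEq_one p M
    rcases (Nat.dvd_prime hrpr).mp h1 with e | e
    · exact e
    · rw [e, Nat.ModEq, Nat.mod_eq_of_lt hpp.one_lt] at h2
      exact absurd h2 hrp1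
  haveI : Subsingleton (Sylow p M) := (Nat.card_eq_one_iff_unique.mp hone).1
  haveI := S.normal_of_subsingleton
  have hle : (S : Subgroup M).map M.subtype ≤ D := by
    refine hOp _ (map_subtype_le _) (S.2.map _) fun m hm => ?_
    rw [mem_normalizer_iff]
    intro v
    constructor
    · rintro ⟨w, hw, rfl⟩
      exact ⟨⟨m, hm⟩ * w * ⟨m, hm⟩⁻¹, ‹(S : Subgroup M).Normal›.conj_mem w hw _, rfl⟩
    · rintro ⟨w, hw, hwv⟩
      refine ⟨⟨m, hm⟩⁻¹ * w * ⟨m, hm⟩, ?_, ?_⟩
      · have h9 := ‹(S : Subgroup M).Normal›.conj_mem w hw (⟨m, hm⟩⁻¹ : M)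
        rwa [inv_inv] at h9
      · simp only [coe_subtype, Subgroup.coe_mul, Subgroup.coe_inv] at hwv ⊢
        rw [hwv]; group
  refine hy₀D (hle ?_)
  have hy₀S : (⟨y₀, hy₀.2⟩ : M) ∈ (S : Subgroup M) := by
    obtain ⟨R, hR⟩ := ((IsPGroup.to_le P₀.2 (inf_le_left (b := M))).comap_subtype (K := M)).exists_le_sylow
    rw [Subsingleton.elim S R]
    exact hR (mem_subgroupOf.mpr hy₀)
  exact ⟨_, hy₀S, rfl⟩

end Cfsg.Agent.SpecFive
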