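import Cfsg.Agent.CharInd.Basic
import Cfsg.Agent.Char.Virtual
import Cfsg.Agent.Char.Linear
import Cfsg.Agent.Char.Kernel

/-!
# Induction of `1 - f` from a TI Sylow subgroup with fixed-point-free normalizer
-/

set_option autoImplicit false
set_option linter.unusedSectionVars false
set_option linter.style.haveILetI false

noncomputable section

namespace Cfsg.Agent.SpecFive

open Subgroup
open scoped ComplexConjugate Classical

universe u

variable {G : Type u} [Group G] [Fintype G] (P : Subgroup G)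

/-- Fusion in, and centralizers of, the non-trivial elements of `P`. -/
structure Fpf : Prop where
  fusion : ∀ x ∈ P, x ≠ 1 → ∀ g : G, g * x * g⁻¹ ∈ P → g ∈ normalizer (P : Set G)
  cent : ∀ x ∈ P, x ≠ 1 → ∀ g : G, Commute x g → g ∈ P

/-- The non-trivial linear characters. -/
abbrev Lin : Type u := {f : P →* ℂˣ // f ≠ 1}

instance instFiniteHom : Finite (P →* ℂˣ) := Char.monoidHom_complex_finite

instance instFintypeHom : Fintype (P →* ℂˣ) := Fintype.ofFinite _

/-- The function `1 - f`. -/
def oneSub (f : P →* ℂˣ) : P → ℂ := (fun _ : P => (1 : ℂ)) - fun x => (f x : ℂ)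

theorem oneSub_one (f : P →* ℂˣ) : oneSub P f 1 = 0 := by simp [oneSub]

theorem oneSub_generalized (f : P →* ℂˣ) : IsGeneralizedCharacter P (oneSub P f) :=
  Char.isGeneralizedCharacter_sub (Char.isGeneralizedCharacter_of_irr Char.isIrrCharacter_const_one)
    (Char.isGeneralizedCharacter_of_irr (Char.isIrrCharacter_monoidHom f))

theorem classInner_oneSub (f g : Lin P) :
    classInner (oneSub P f.1) (oneSub P g.1) = if f = g then 2 else 1 := by
  have hne : ∀ f : Lin P, (fun _ : P => (1 : ℂ)) ≠ fun x => (f.1 x : ℂ) := fun f e =>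
    f.2 (Char.monoidHom_coe_injective (by simpa using e.symm))
  have h1 := Char.classInner_irr_self (Char.isIrrCharacter_const_one (G := P))
  have h2 := Char.classInner_irr_ne (Char.isIrrCharacter_const_one (G := P))
    (Char.isIrrCharacter_monoidHom g.1) (hne g)
  have h3 := Char.classInner_irr_ne (Char.isIrrCharacter_monoidHom f.1)
    (Char.isIrrCharacter_const_one (G := P)) (hne f).symm
  simp only [oneSub, Char.classInner_sub_left, Char.classInner_sub_right, h1, h2, h3]
  by_cases h : f = g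
  · subst h
    rw [if_pos rfl, Char.classInner_irr_self (Char.isIrrCharacter_monoidHom f.1)]
    norm_num
  · rw [if_neg h, Char.classInner_irr_ne (Char.isIrrCharacter_monoidHom f.1)
      (Char.isIrrCharacter_monoidHom g.1) fun e => h (Subtype.ext (Char.monoidHom_coe_injective e))]
    norm_num

/-- Conjugation of `P` by an element of the normalizer. -/
def conjP (n : normalizer (P : Set G)) : P →* P where
  toFun x := ⟨(n : G)⁻¹ * x * n, (mem_normalizer_iff''.mp n.2 x).mp x.2⟩
  map_one' := Subtype.ext (by simp)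
  map_mul' x y := Subtype.ext (by simp only [Subgroup.coe_mul]; group)

theorem conjP_mul (m n : normalizer (P : Set G)) (x : P) :
    conjP P (m * n) x = conjP P n (conjP P m x) :=
  Subtype.ext (by simp only [conjP, MonoidHom.coe_mk, OneHom.coe_mk, Subgroup.coe_mul]; group)

theorem conjP_one (x : P) : conjP P 1 x = x := Subtype.ext (by simp [conjP])

/-- `f` and `g` are conjugate under the normalizer. -/
def Rel (f g : Lin P) : Prop := ∃ n : normalizer (P : Set G), f.1 = g.1.comp (conjP P n)

theorem rel_equivalence : Equivalence (Rel P) where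
  refl f := ⟨1, MonoidHom.ext fun x => by rw [MonoidHom.comp_apply, conjP_one]⟩
  symm := fun {f g} ⟨n, hn⟩ => ⟨n⁻¹, MonoidHom.ext fun x => by
    rw [MonoidHom.comp_apply, hn, MonoidHom.comp_apply, ← conjP_mul, inv_mul_cancel, conjP_one]⟩
  trans := fun {f g h} ⟨n, hn⟩ ⟨m, hm⟩ => ⟨n * m, MonoidHom.ext fun x => by
    rw [hn, MonoidHom.comp_apply, hm, MonoidHom.comp_apply, MonoidHom.comp_apply, conjP_mul]⟩

/-- The setoid of conjugacy under the normalizer. -/
def relSetoid : Setoid (Lin P) := ⟨Rel P, rel_equivalence P⟩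

/-- The conjugate of a non-trivial linear character. -/
def actLin (n : normalizer (P : Set G)) (g : Lin P) : Lin P :=
  ⟨g.1.comp (conjP P n), fun e => g.2 (MonoidHom.ext fun x => by
    have h1 := DFunLike.congr_fun e (conjP P n⁻¹ x)
    rw [MonoidHom.comp_apply, ← conjP_mul, inv_mul_cancel, conjP_one] at h1
    simpa using h1)⟩

variable {P}

theorem conjP_fix_iff (hP : Fpf P) (g : Lin P) (n : normalizer (P : Set G)) :
    g.1.comp (conjP P n) = g.1 ↔ (n : G) ∈ P := by
  constructor
  · intro h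
    by_contra hn
    let φ : P → P := fun x => conjP P n x * x⁻¹
    have hφ : Function.Injective φ := by
      intro x y hxy
      have e : (n : G)⁻¹ * x * n * (x : G)⁻¹ = (n : G)⁻¹ * y * n * (y : G)⁻¹ :=
        congrArg Subtype.val hxy
      by_contra hne
      refine hn (hP.cent ((y : G)⁻¹ * x) (mul_mem (inv_mem y.2) x.2)
        (fun e1 => hne (Subtype.ext (inv_mul_eq_one.mp e1).symm)) n ?_)
      show (y : G)⁻¹ * x * n = n * ((y : G)⁻¹ * x)
      calc (y : G)⁻¹ * x * n = (y : G)⁻¹ * n * ((n : G)⁻¹ * x * n * (x : G)⁻¹) * x := by group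
        _ = (y : G)⁻¹ * n * ((n : G)⁻¹ * y * n * (y : G)⁻¹) * x := by rw [e]
        _ = n * ((y : G)⁻¹ * x) := by group
    refine g.2 (MonoidHom.ext fun z => ?_)
    obtain ⟨x, rfl⟩ := (Finite.injective_iff_bijective.mp hφ).2 z
    show g.1 (conjP P n x * x⁻¹) = 1
    rw [map_mul, map_inv, ← MonoidHom.comp_apply, h, mul_inv_cancel]
  · intro hn
    refine MonoidHom.ext fun x => ?_
    rw [MonoidHom.comp_apply, show conjP P n x = (⟨n, hn⟩ : P)⁻¹ * x * ⟨n, hn⟩ from Subtype.ext rfl,
      map_mul, map_mul, map_inv, mul_right_comm, inv_mul_cancel, one_mul]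

theorem card_fixing (hP : Fpf P) (f g : Lin P) :
    Nat.card {n : normalizer (P : Set G) // f.1 = g.1.comp (conjP P n)} =
      if Rel P f g then Nat.card P else 0 := by
  split_ifs with h
  · obtain ⟨n, hn⟩ := h
    refine (Nat.card_eq_of_bijective (fun v : P =>
      (⟨⟨v, le_normalizer v.2⟩ * n, ?_⟩ : {n : normalizer (P : Set G) // f.1 = g.1.comp (conjP P n)}))
      ⟨fun v w e => ?_, fun m => ?_⟩).symm
    · refine MonoidHom.ext fun x => ?_
      rw [MonoidHom.comp_apply, conjP_mul, ← MonoidHom.comp_apply g.1, ← hn,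
        ← MonoidHom.comp_apply f.1, (conjP_fix_iff hP f _).mpr v.2]
    · have := congrArg Subtype.val e
      simp only [mul_left_inj] at this
      exact Subtype.ext (congrArg Subtype.val this :)
    · refine ⟨⟨((m.1 * n⁻¹ : normalizer (P : Set G)) : G), (conjP_fix_iff hP f _).mp ?_⟩,
        Subtype.ext (Subtype.ext (by simp))⟩
      refine MonoidHom.ext fun x => ?_
      have e1 := DFunLike.congr_fun hn (conjP P (m.1 * n⁻¹) x)
      have e2 := DFunLike.congr_fun m.2 x
      simp only [MonoidHom.comp_apply] at e1 e2 ⊢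
      rw [e1, ← conjP_mul, mul_assoc, inv_mul_cancel, mul_one, ← e2]
  · rw [Nat.card_eq_zero]
    exact Or.inl ⟨fun m => h ⟨m.1, m.2⟩⟩

/-- The index of `P` in its normalizer. -/
theorem card_normalizer_eq (P : Subgroup G) :
    Nat.card (normalizer (P : Set G)) = P.relIndex (normalizer (P : Set G)) * Nat.card P := by
  rw [← (P.subgroupOf (normalizer (P : Set G))).index_mul_card,
    Nat.card_congr (Subgroup.subgroupOfEquivOfLe (le_normalizer (H := P))).toEquiv]
  rfl

/-- The conjugacy classes of non-trivial linear characters. -/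
theorem card_rel (hP : Fpf P) (g : Lin P) :
    Nat.card {f : Lin P // Rel P f g} = P.relIndex (normalizer (P : Set G)) := by
  set N := normalizer (P : Set G)
  let φ : N → {f : Lin P // Rel P f g} := fun n => ⟨actLin P n g, n, rfl⟩
  have hfib : ∀ y : {f : Lin P // Rel P f g}, Nat.card {n : N // φ n = y} = Nat.card P := by
    intro y
    have h1 := card_fixing hP y.1 g
    rw [if_pos y.2] at h1
    rw [← h1]
    exact Nat.card_congr (Equiv.subtypeEquivRight fun n =>
      ⟨fun e => by rw [← e]; rfl, fun e => Subtype.ext (Subtype.ext e.symm)⟩)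
  have h2 := Nat.card_congr (Equiv.sigmaFiberEquiv φ)
  rw [Nat.card_sigma, Finset.sum_congr rfl (fun y _ => hfib y), Finset.sum_const,
    Finset.card_univ, smul_eq_mul, ← Nat.card_eq_fintype_card, card_normalizer_eq] at h2
  exact Nat.eq_of_mul_eq_mul_right Nat.card_pos h2

variable (P)

theorem exists_vec (χ : IrrCharacter G) (f : Lin P) :
    ∃ n : ℤ, classInner (oneSub P f.1) (fun x : P => (χ : G → ℂ) x) = n :=
  Char.classInner_generalized_int (oneSub_generalized P f.1)
    (Char.isGeneralizedCharacter_of_isCharacter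
      (Char.isCharacter_restrict (Char.isCharacter_of_irr χ.2) P))

/-- Multiplicity of the trivial minus that of `f`. -/
def vec (χ : IrrCharacter G) (f : Lin P) : ℤ := (exists_vec P χ f).choose

theorem vec_spec (χ : IrrCharacter G) (f : Lin P) :
    classInner (oneSub P f.1) (fun x : P => (χ : G → ℂ) x) = vec P χ f :=
  (exists_vec P χ f).choose_spec

theorem vec_ind (χ : IrrCharacter G) (f : Lin P) :
    classInner (indFun P (oneSub P f.1)) (χ : G → ℂ) = vec P χ f := by
  rw [CharInd.classInner_indFun_left P _ (Char.irr_isClassFunction χ.2), vec_spec]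

theorem vec_trivial (f : Lin P) : vec P (Char.trivialIrr G) f = 1 := by
  have h1 := vec_spec P (Char.trivialIrr G) f
  have hne : (fun x : P => (f.1 x : ℂ)) ≠ fun _ : P => (1 : ℂ) := fun e =>
    f.2 (Char.monoidHom_coe_injective (by simpa using e))
  have h2 : classInner (oneSub P f.1) (fun _ : P => (1 : ℂ)) = 1 := by
    simp only [oneSub, Char.classInner_sub_left,
      Char.classInner_irr_self (Char.isIrrCharacter_const_one (G := P)),
      Char.classInner_irr_ne (Char.isIrrCharacter_monoidHom f.1) Char.isIrrCharacter_const_one hne,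
      sub_zero]
  have h3 : ((vec P (Char.trivialIrr G) f : ℤ) : ℂ) = ((1 : ℤ) : ℂ) := by
    rw [← h1, Int.cast_one]; exact h2
  exact_mod_cast h3

/-- `χ(1)`-weighted sum of multiplicity differences. -/
theorem sum_degree_vec (f : Lin P) (d : IrrCharacter G → ℕ)
    (hd : ∀ χ : IrrCharacter G, (χ : G → ℂ) 1 = d χ) :
    ∑ χ, (d χ : ℤ) * vec P χ f = 0 := by
  have h1 := congrFun (Char.eq_sum_classInner_smul
    (CharInd.indFun_isClassFunction P (oneSub P f.1))) 1
  rw [CharInd.indFun_one_apply, oneSub_one, mul_zero, Finset.sum_apply] at h1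
  simp only [Pi.smul_apply, smul_eq_mul, vec_ind, hd] at h1
  have h2 : ((∑ χ, (d χ : ℤ) * vec P χ f : ℤ) : ℂ) = 0 := by
    push_cast
    rw [h1]
    exact Finset.sum_congr rfl fun χ _ => mul_comm _ _
  exact_mod_cast h2

variable {P}

theorem indFun_value (hP : Fpf P) (g : Lin P) (x : P) (hx : x ≠ 1) :
    indFun P (oneSub P g.1) (x : G) = (Nat.card P : ℂ)⁻¹ *
      ∑ n : normalizer (P : Set G), oneSub P g.1 (conjP P n x) := by
  rw [CharInd.indFun_apply]
  congr 1
  have hx1 : (x : G) ≠ 1 := fun e => hx (Subtype.ext e)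
  rw [← Finset.sum_filter_of_ne (p := fun y : G => y ∈ normalizer (P : Set G)) (fun y _ hy => ?_)]
  · rw [Finset.sum_subtype (p := fun y : G => y ∈ normalizer (P : Set G)) _ (by simp)]
    refine Finset.sum_congr rfl fun n _ => ?_
    rw [CharInd.extendByZero_mem P _ ((mem_normalizer_iff''.mp n.2 x).mp x.2)]
    rfl
  · by_contra hn
    refine hy (CharInd.extendByZero_notMem P _ fun hm => hn ?_)
    have h1 := hP.fusion x x.2 hx1 y⁻¹ (by rwa [inv_inv])
    simpa using inv_mem h1

/-- The inner products. -/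
theorem sum_vec_mul (hP : Fpf P) (f g : Lin P) :
    ∑ χ, vec P χ f * vec P χ g =
      (P.relIndex (normalizer (P : Set G)) : ℤ) + if Rel P f g then 1 else 0 := by
  set N := normalizer (P : Set G)
  have h1 := Char.classInner_eq_sum_mul_conj (b := indFun P (oneSub P g.1))
    (CharInd.indFun_isClassFunction P (oneSub P f.1))
  simp only [vec_ind, map_intCast] at h1
  rw [CharInd.classInner_indFun_left P _ (CharInd.indFun_isClassFunction P _)] at h1
  have hPne : (Nat.card P : ℂ) ≠ 0 := CharInd.natCard_ne_zero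
  have h2 : classInner (oneSub P f.1) (fun x : P => indFun P (oneSub P g.1) x) =
      (Nat.card P : ℂ)⁻¹ * ∑ n : N, classInner (oneSub P f.1) (oneSub P (actLin P n g).1) := by
    have e : ∀ x : P, oneSub P f.1 x * conj (indFun P (oneSub P g.1) x) =
        (Nat.card P : ℂ)⁻¹ * ∑ n : N, oneSub P f.1 x * conj (oneSub P (actLin P n g).1 x) := by
      intro x
      by_cases hx : x = 1
      · simp [hx, oneSub_one]
      · rw [indFun_value hP g x hx, map_mul, map_inv₀, Complex.conj_natCast, map_sum,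
          Finset.mul_sum, Finset.mul_sum, Finset.mul_sum]
        refine Finset.sum_congr rfl fun n _ => ?_
        rw [show oneSub P g.1 (conjP P n x) = oneSub P (actLin P n g).1 x from rfl]
        ring
    simp only [classInner, e, ← Finset.mul_sum]
    simp only [Finset.mul_sum]
    rw [Finset.sum_comm]
  rw [h2] at h1
  simp only [classInner_oneSub] at h1
  have hc : ∑ n : N, (if f = actLin P n g then (2 : ℂ) else 1) =
      (Nat.card N : ℂ) + Nat.card {n : N // f.1 = g.1.comp (conjP P n)} := by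
    have e : ∀ n : N, (if f = actLin P n g then (2 : ℂ) else 1) =
        1 + if f.1 = g.1.comp (conjP P n) then 1 else 0 := fun n => by
      by_cases h : f = actLin P n g
      · have h' : f.1 = g.1.comp (conjP P n) := congrArg Subtype.val h
        rw [if_pos h, if_pos h']; norm_num
      · have h' : ¬ f.1 = g.1.comp (conjP P n) := fun e' => h (Subtype.ext e')
        rw [if_neg h, if_neg h']; norm_num
    simp only [e, Finset.sum_add_distrib, Finset.sum_boole, Finset.sum_const, Finset.card_univ,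
      nsmul_eq_mul, mul_one]
    rw [Nat.card_eq_fintype_card, Nat.card_eq_fintype_card]
    simp [Fintype.card_subtype]
  rw [hc, card_fixing hP, card_normalizer_eq] at h1
  have h4 : ((∑ χ, vec P χ f * vec P χ g : ℤ) : ℂ) =
      (((P.relIndex N : ℤ) + if Rel P f g then 1 else 0 : ℤ) : ℂ) := by
    split_ifs at h1 ⊢ with hr
    · push_cast at h1 ⊢
      rw [← h1]
      field_simp
      try rfl
    · push_cast at h1 ⊢
      rw [← h1]
      field_simp
      first | ring | (simp only [N]; ring) | rfl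
  exact_mod_cast h4

theorem vec_eq_of_rel (hP : Fpf P) {f g : Lin P} (h : Rel P f g) (χ : IrrCharacter G) :
    vec P χ f = vec P χ g := by
  have h1 := sum_vec_mul hP f f
  have h2 := sum_vec_mul hP g g
  have h3 := sum_vec_mul hP f g
  rw [if_pos ((rel_equivalence P).refl _)] at h1 h2
  rw [if_pos h] at h3
  have h4 : ∑ χ, (vec P χ f - vec P χ g) * (vec P χ f - vec P χ g) = 0 := by
    simp only [sub_mul, mul_sub, Finset.sum_sub_distrib, h1, h2, h3,
      fun χ => mul_comm (vec P χ g) (vec P χ f)]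
    ring
  exact sub_eq_zero.mp (mul_self_eq_zero.mp
    ((Finset.sum_eq_zero_iff_of_nonneg fun χ _ => mul_self_nonneg _).mp h4 χ (Finset.mem_univ _)))

variable (P)

/-- The degree modulo `p`. -/
theorem dvd_degree_add (p : ℕ) [hp : Fact p.Prime] (hPp : IsPGroup p P) (hne : P ≠ ⊥)
    (χ : IrrCharacter G) {d : ℕ} (hd : (χ : G → ℂ) 1 = d) :
    (p : ℤ) ∣ (d : ℤ) + ∑ f : Lin P, vec P χ f := by
  obtain ⟨m, hm, hmi⟩ := Char.isCharacter_exists_coeff
    (Char.isCharacter_restrict (Char.isCharacter_of_irr χ.2) P)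
  -- degrees of the constituents
  have hdeg : ∀ ψ : IrrCharacter P, ∃ k : ℕ, (ψ : P → ℂ) 1 = k ∧ (k = 1 ∨ p ∣ k) := by
    intro ψ
    obtain ⟨k, -, hk, hkd⟩ := Char.irr_degree_dvd_card ψ.2
    obtain ⟨i, hi⟩ := IsPGroup.iff_card.mp hPp
    obtain ⟨j, -, rfl⟩ := (Nat.dvd_prime_pow hp.out).mp (hi ▸ hkd)
    refine ⟨_, hk, ?_⟩
    rcases Nat.eq_zero_or_pos j with rfl | hj
    · exact Or.inl (pow_zero p)
    · exact Or.inr (dvd_pow_self p hj.ne')
  choose k hk hkd using hdeg
  have hd' : (d : ℤ) = ∑ ψ : IrrCharacter P, (m ψ : ℤ) * k ψ := by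
    have h1 : (χ : G → ℂ) ((1 : P) : G) = ∑ ψ : IrrCharacter P, (m ψ : ℂ) * (k ψ : ℂ) := by
      have := congrFun hm 1
      simpa [Finset.sum_apply, hk, nsmul_eq_mul] using this
    rw [OneMemClass.coe_one, hd] at h1
    exact_mod_cast h1
  let lin : (P →* ℂˣ) → IrrCharacter P := fun f => (Char.monoidHomEquivLinear f).1
  have hlin : ∀ f, ((lin f : IrrCharacter P) : P → ℂ) = fun x => (f x : ℂ) := fun f => rfl
  have hv : ∀ f : Lin P, vec P χ f = (m (lin 1) : ℤ) - m (lin f.1) := by
    intro f
    have h1 := congrArg conj (vec_spec P χ f)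
    rw [Char.classInner_conj, map_intCast] at h1
    have e : oneSub P f.1 = ((lin 1 : IrrCharacter P) : P → ℂ) - (lin f.1 : IrrCharacter P) := by
      rw [hlin, hlin]
      funext x
      simp [oneSub]
    rw [e, Char.classInner_sub_right, hmi, hmi] at h1
    have h2 : ((vec P χ f : ℤ) : ℂ) = (((m (lin 1) : ℤ) - m (lin f.1) : ℤ) : ℂ) := by
      rw [← h1]; push_cast; rfl
    exact_mod_cast h2
  have hsplit := Fintype.sum_subtype_add_sum_subtype (fun ψ : IrrCharacter P => (ψ : P → ℂ) 1 = 1)
    (fun ψ => (m ψ : ℤ) * k ψ)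
  have hlinsum : ∑ ψ : {ψ : IrrCharacter P // (ψ : P → ℂ) 1 = 1}, (m ψ.1 : ℤ) * k ψ.1 =
      ∑ f : P →* ℂˣ, (m (lin f) : ℤ) := by
    refine Eq.trans ?_ (Fintype.sum_equiv Char.monoidHomEquivLinear (fun f => (m (lin f) : ℤ))
      (fun ψ => (m ψ.1 : ℤ)) (fun f => rfl)).symm
    refine Finset.sum_congr rfl fun ψ _ => ?_
    have h1 : k ψ.1 = 1 := by
      have h2 := (hk ψ.1).symm.trans ψ.2
      exact_mod_cast h2
    rw [h1, Nat.cast_one, mul_one]
  have hcard : p ∣ Nat.card (P →* ℂˣ) := by
    rw [Char.card_monoidHom_complex]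
    obtain ⟨i, hi⟩ := IsPGroup.iff_card.mp hPp
    obtain ⟨j, -, hj⟩ := (Nat.dvd_prime_pow hp.out).mp (hi ▸ (commutator P).index_dvd_card)
    rw [hj]
    refine dvd_pow_self p fun hj0 => ?_
    rw [hj0, pow_zero, Subgroup.index_eq_one] at hj
    haveI : Nontrivial P := (nontrivial_iff_ne_bot _).mpr hne
    haveI := hPp.isNilpotent
    exact (Group.IsSolvable.commutator_lt_top_of_nontrivial P).ne hj
  have hsum : ∑ f : Lin P, vec P χ f =
      ((Nat.card (P →* ℂˣ) : ℤ)) * m (lin 1) - ∑ f : P →* ℂˣ, (m (lin f) : ℤ) := by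
    have h1 := Fintype.sum_subtype_add_sum_subtype (fun f : P →* ℂˣ => f ≠ 1)
      (fun f => (m (lin 1) : ℤ) - m (lin f))
    have h2 : ∑ f : {f : P →* ℂˣ // ¬ f ≠ 1}, ((m (lin 1) : ℤ) - m (lin f.1)) = 0 :=
      Finset.sum_eq_zero fun f _ => by rw [not_not.mp f.2, sub_self]
    rw [h2, add_zero] at h1
    simp only [hv]
    rw [h1, Finset.sum_sub_distrib, Finset.sum_const, Finset.card_univ, nsmul_eq_mul,
      Nat.card_eq_fintype_card]
  rw [hd', ← hsplit, hlinsum, hsum]
  obtain ⟨c, hc⟩ := hcard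
  obtain ⟨r, hr⟩ : (p : ℤ) ∣ ∑ ψ : {ψ : IrrCharacter P // ¬ (ψ : P → ℂ) 1 = 1},
      (m ψ.1 : ℤ) * k ψ.1 := by
    refine Finset.dvd_sum fun ψ _ => dvd_mul_of_dvd_right ?_ _
    exact Int.natCast_dvd_natCast.mpr ((hkd ψ.1).resolve_left fun e => ψ.2 (by rw [hk, e, Nat.cast_one]))
  refine ⟨(c : ℤ) * m (lin 1) + r, ?_⟩
  rw [hc, hr]
  push_cast
  ring

end Cfsg.Agent.SpecFive
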